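import Groth.Agent.RelConeLib.Ring
import Groth.Agent.RelProjLib.ImmCrit
import Groth.Agent.RelSpecLib.Basic
import Groth.Prelude.Def_RelSpec2
import Mathlib.AlgebraicGeometry.Morphisms.SchemeTheoreticallyDominant

/-!
# The open immersion `Spec 𝒜 ⟶ Proj(𝒜[z])` over a general base
-/

set_option autoImplicit false
noncomputable section

universe u

open CategoryTheory CategoryTheory.Limits AlgebraicGeometry TopologicalSpace Opposite HomogeneousLocalization
open scoped HomogeneousIdeal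
open RelProj RelCone

namespace Groth.Agent.RelConeLib

variable {Y PC : Scheme.{u}} {𝒜 : RelSpec.QCAlg Y} {Sh : QCGrAlg Y} (ι : 𝒜 ⟶ Sh.toQCAlg)
  (z : Sh.presheaf.obj (op ⊤))

/-- `Sh` is `𝒜[z]` with `z` of degree one, on rings of sections. -/
structure PolyData : Prop where
  deg_z : ∀ (U : Y.Opens) (hU : IsAffineOpen U), restrictTop Sh z U ∈ Sh.deg U hU 1
  bij : ∀ (U : Y.Opens) (_ : IsAffineOpen U),
    Function.Bijective (Polynomial.eval₂RingHom (ι.hom.app (op U)).hom (restrictTop Sh z U))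

lemma polyData_of_isPolyOver {𝒮 : QCGrAlg Y} {ι : 𝒮.toQCAlg ⟶ Sh.toQCAlg} {z : Sh.presheaf.obj (op ⊤)}
    (h : IsPolyOver 𝒮 Sh ι z) : PolyData ι z :=
  ⟨h.deg_z, h.bij⟩

variable {ι z} (D : PolyData ι z)

/-- "set `z = 1`" over `U`. -/
abbrev PolyData.E (U : Y.Opens) (hU : IsAffineOpen U) : Sh.presheaf.obj (op U) →+* 𝒜.presheaf.obj (op U) :=
  evalAtOne (D.bij U hU)

lemma PolyData.E_z (U : Y.Opens) (hU : IsAffineOpen U) : D.E U hU (restrictTop Sh z U) = 1 :=
  evalAtOne_self _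

/-- The homomorphism `Sh(U)_(z) → 𝒜(U)`. -/
abbrev PolyData.θ (U : Y.Opens) (hU : IsAffineOpen U) :
    Away (Sh.deg U hU) (restrictTop Sh z U) →+* 𝒜.presheaf.obj (op U) :=
  awayTo (D.E U hU) (D.E_z U hU)

lemma PolyData.bijective_θ (U : Y.Opens) (hU : IsAffineOpen U) : Function.Bijective (D.θ U hU) :=
  bijective_awayTo (D.bij U hU) (D.deg_z U hU)

/-- The chart `Spec 𝒜(U) ⟶ Proj Sh(U)`. -/
abbrev PolyData.c (U : Y.Opens) (hU : IsAffineOpen U) :
    Spec (𝒜.presheaf.obj (op U)) ⟶ Proj (Sh.deg U hU) :=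
  coneChart (Sh.deg U hU) (D.E U hU) (D.E_z U hU) (D.deg_z U hU)

lemma awayZToBase_eq {𝒮 : QCGrAlg Y} {ι : 𝒮.toQCAlg ⟶ Sh.toQCAlg} {z : Sh.presheaf.obj (op ⊤)}
    (h : IsPolyOver 𝒮 Sh ι z) (U : Y.Opens) (hU : IsAffineOpen U) :
    h.awayZToBase U hU = (polyData_of_isPolyOver h).θ U hU := rfl

lemma restrictTop_map {U V : Y.Opens} (i : V ≤ U) :
    (Sh.presheaf.map (homOfLE i).op).hom (restrictTop Sh z U) = restrictTop Sh z V := by
  unfold restrictTop
  rw [← CommRingCat.comp_apply, ← Functor.map_comp]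
  rfl

lemma PolyData.E_natural {U V : Y.Opens} (hU : IsAffineOpen U) (hV : IsAffineOpen V) (i : V ≤ U)
    (b : Sh.presheaf.obj (op U)) :
    (𝒜.presheaf.map (homOfLE i).op).hom (D.E U hU b) = D.E V hV ((Sh.presheaf.map (homOfLE i).op).hom b) :=
  RingHom.congr_fun (evalAtOne_naturality (D.bij U hU) (D.bij V hV) (Sh.presheaf.map (homOfLE i).op).hom
    (𝒜.presheaf.map (homOfLE i).op).hom
    (fun a => congr($(ι.hom.naturality (homOfLE i).op).hom a).symm) (restrictTop_map i)) b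

variable (pC : PC ⟶ Y)
  (chartC : ∀ (U : Y.Opens) (hU : IsAffineOpen U), (((pC ⁻¹ᵁ U : PC.Opens) : Scheme.{u}) ≅ Proj (Sh.deg U hU)))

/-- The defining equations. -/
def IsImm (i : 𝒜.spec ⟶ PC) : Prop :=
  ∀ (U : Y.Opens) (hU : IsAffineOpen U), 𝒜.ι U hU ≫ i = D.c U hU ≫ emb pC chartC U hU

lemma isImm_of_isConeImm {𝒮 : QCGrAlg Y} {ι : 𝒮.toQCAlg ⟶ Sh.toQCAlg} {z : Sh.presheaf.obj (op ⊤)}
    {h : IsPolyOver 𝒮 Sh ι z} {i : 𝒮.toQCAlg.spec ⟶ PC} (hi : IsConeImm 𝒮 h pC chartC i) :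
    IsImm (polyData_of_isPolyOver h) pC chartC i :=
  fun U hU => (hi U hU).trans (Category.assoc _ _ _).symm

variable {pC chartC}

lemma existsUnique_isImm (hP : IsRelProj Sh pC chartC) : ∃! i : 𝒜.spec ⟶ PC, IsImm D pC chartC i := by
  obtain ⟨i, hi, hu⟩ := RelSpecLib.existsUnique_glue 𝒜 (Z := PC) (fun _ => True)
    (fun x => by
      obtain ⟨_, ⟨U, hU, rfl⟩, hxU, -⟩ := Y.isBasis_affineOpens.exists_subset_of_mem_open
        (show x ∈ (⊤ : Y.Opens) from trivial) isOpen_univ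
      exact ⟨U, hU, hxU, trivial⟩)
    (fun _ _ _ _ h => h) (fun U hU _ => D.c U hU ≫ emb pC chartC U hU)
    (fun U V hU hV i _ _ => by
      have e := coneChart_naturality (ℬ := Sh.deg U hU) (D.E U hU) (D.E_z U hU) (D.deg_z U hU)
        (Sh.res hU hV i) (RelProjLib.irrelevant_le_map_affine Sh hU hV i) (𝒜.presheaf.map (homOfLE i).op).hom
        (D.E V hV) (D.deg_z V hV) (restrictTop_map i) (D.E_z V hV) (D.E_natural hU hV i)
      refine (Category.assoc _ _ _).symm.trans (Eq.trans (congrArg (· ≫ emb pC chartC U hU) e) ?_)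
      rw [Category.assoc, RelProjLib.map_res_emb_affine Sh hP hU hV i])
  exact ⟨i, fun U hU => hi U hU trivial, fun j hj => hu j fun U hU _ => hj U hU⟩

variable {D} {i : 𝒜.spec ⟶ PC}

lemma comp_π (hP : IsRelProj Sh pC chartC) (hi : IsImm D pC chartC i) : i ≫ pC = 𝒜.π := by
  refine RelSpecLib.hom_ext 𝒜 fun U hU => ?_
  rw [reassoc_of% (hi U hU), RelProjLib.emb_comp hP U hU, 𝒜.ι_π U hU]
  unfold PolyData.c coneChart
  rw [Category.assoc, Proj.awayι_toSpecZero_assoc]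
  simp only [← Spec.map_comp_assoc]
  congr 2
  refine CommRingCat.hom_ext (RingHom.ext fun r => ?_)
  show awayTo (D.E U hU) (D.E_z U hU) (fromZeroRingHom _ _ ((Sh.strZero U hU).hom r)) = _
  rw [awayTo_fromZero _ _ (D.deg_z U hU), QCGrAlg.strZero_apply_coe,
    show (Sh.str.app (op U)).hom r = (ι.hom.app (op U)).hom ((𝒜.str.app (op U)).hom r) from
      congr($(NatTrans.congr_app ι.comm (op U)).hom r).symm]
  exact evalAtOne_map _ _

lemma preimage_base (hP : IsRelProj Sh pC chartC) (hi : IsImm D pC chartC i) (U : Y.Opens) (hU : IsAffineOpen U) :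
    i ⁻¹ᵁ (pC ⁻¹ᵁ U) = (𝒜.ι U hU).opensRange := by
  rw [← Scheme.Hom.comp_preimage, comp_π hP hi, 𝒜.π_preimage U hU]

/-- A property local on the target holds for `i` if it holds for the charts. -/
lemma property_of_charts (P' : MorphismProperty Scheme.{u}) [IsZariskiLocalAtTarget P']
    (hP : IsRelProj Sh pC chartC) (hi : IsImm D pC chartC i)
    (H : ∀ (U : Y.Opens) (hU : IsAffineOpen U), P' (D.c U hU)) : P' i := by
  rw [IsZariskiLocalAtTarget.iff_of_iSup_eq_top (P := P')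
    (fun U : {U : Y.Opens // IsAffineOpen U} => pC ⁻¹ᵁ U.1) ?_]
  · rintro ⟨U, hU⟩
    have e : i ∣_ (pC ⁻¹ᵁ U) = (𝒜.spec.isoOfEq (preimage_base hP hi U hU)).hom ≫
        (𝒜.ι U hU).isoOpensRange.inv ≫ D.c U hU ≫ (chartC U hU).inv := by
      rw [← cancel_mono (pC ⁻¹ᵁ U).ι, morphismRestrict_ι]
      simp only [Category.assoc]
      rw [show (chartC U hU).inv ≫ (pC ⁻¹ᵁ U).ι = emb pC chartC U hU from rfl, ← hi U hU,
        Scheme.Hom.isoOpensRange_inv_comp_assoc, Scheme.isoOfEq_hom_ι_assoc]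
    show P' (i ∣_ (pC ⁻¹ᵁ U))
    rw [e, MorphismProperty.cancel_left_of_respectsIso P', MorphismProperty.cancel_left_of_respectsIso P',
      MorphismProperty.cancel_right_of_respectsIso P']
    exact H U hU
  · rw [eq_top_iff]
    intro x _
    obtain ⟨_, ⟨U, hU, rfl⟩, hxU, -⟩ := Y.isBasis_affineOpens.exists_subset_of_mem_open
      (show pC x ∈ (⊤ : Y.Opens) from trivial) isOpen_univ
    exact Opens.mem_iSup.2 ⟨⟨U, hU⟩, hxU⟩

lemma isOpenImmersion (hP : IsRelProj Sh pC chartC) (hi : IsImm D pC chartC i) : IsOpenImmersion i :=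
  property_of_charts @IsOpenImmersion hP hi fun U hU =>
    isOpenImmersion_coneChart _ _ (D.deg_z U hU) (D.bijective_θ U hU)

set_option backward.isDefEq.respectTransparency false in
lemma isAffineHom (hP : IsRelProj Sh pC chartC) (hi : IsImm D pC chartC i) : IsAffineHom i :=
  property_of_charts (@IsAffineHom : MorphismProperty Scheme.{u}) hP hi
    fun U hU => isAffineHom_coneChart _ _ (D.deg_z U hU)

lemma emb_mem_range_iff (hP : IsRelProj Sh pC chartC) (hi : IsImm D pC chartC i) (U : Y.Opens)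
    (hU : IsAffineOpen U) (y : Proj (Sh.deg U hU)) :
    emb pC chartC U hU y ∈ Set.range i ↔ restrictTop Sh z U ∉ y.asHomogeneousIdeal := by
  have hr := range_coneChart (ℬ := Sh.deg U hU) (D.E U hU) (D.E_z U hU) (D.deg_z U hU) (D.bijective_θ U hU)
  constructor
  · rintro ⟨x, hx⟩
    have hxU : x ∈ i ⁻¹ᵁ (pC ⁻¹ᵁ U) := by
      show pC (i x) ∈ U
      rw [hx]
      exact RelProjLib.emb_mem_base Sh U hU y
    rw [preimage_base hP hi U hU] at hxU
    obtain ⟨w, rfl⟩ := hxU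
    rw [← Scheme.Hom.comp_apply, hi U hU, Scheme.Hom.comp_apply] at hx
    obtain rfl := (emb pC chartC U hU).isOpenEmbedding.injective hx
    exact (Set.ext_iff.1 hr _).1 ⟨w, rfl⟩
  · intro hy
    obtain ⟨w, rfl⟩ := (Set.ext_iff.1 hr y).2 hy
    exact ⟨𝒜.ι U hU w, by rw [← Scheme.Hom.comp_apply, hi U hU, Scheme.Hom.comp_apply]⟩

lemma range_eq (hP : IsRelProj Sh pC chartC) (hi : IsImm D pC chartC i) (Xz : PC.Opens)
    (hXz : ∀ (U : Y.Opens) (hU : IsAffineOpen U),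
      Xz ⊓ pC ⁻¹ᵁ U =
        (pC ⁻¹ᵁ U).ι ''ᵁ ((chartC U hU).hom ⁻¹ᵁ Proj.basicOpen (Sh.deg U hU) (restrictTop Sh z U))) :
    Set.range i = (Xz : Set PC) := by
  ext x
  obtain ⟨U, hU, y, rfl⟩ := RelProjLib.exists_emb_apply_eq (p := pC) (chart := chartC) x
  have hmem : emb pC chartC U hU y ∈ pC ⁻¹ᵁ U := RelProjLib.emb_mem_base Sh U hU y
  rw [emb_mem_range_iff hP hi U hU y]
  have he : (chartC U hU).hom ((chartC U hU).inv y) = y := by
    rw [← Scheme.Hom.comp_apply, Iso.inv_hom_id]; rfl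
  constructor
  · intro hy
    have : emb pC chartC U hU y ∈ Xz ⊓ pC ⁻¹ᵁ U := by
      rw [hXz U hU]
      refine ⟨(chartC U hU).inv y, ?_, rfl⟩
      show (chartC U hU).hom ((chartC U hU).inv y) ∈ Proj.basicOpen (Sh.deg U hU) (restrictTop Sh z U)
      rw [he]
      exact hy
    exact this.1
  · intro hx
    have : emb pC chartC U hU y ∈ Xz ⊓ pC ⁻¹ᵁ U := ⟨hx, hmem⟩
    rw [hXz U hU] at this
    obtain ⟨w, hw, hw'⟩ := this
    obtain rfl := (pC ⁻¹ᵁ U).ι.isOpenEmbedding.injective (hw'.trans rfl :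
      (pC ⁻¹ᵁ U).ι w = (pC ⁻¹ᵁ U).ι ((chartC U hU).inv y))
    change (chartC U hU).hom ((chartC U hU).inv y) ∈ Proj.basicOpen (Sh.deg U hU) (restrictTop Sh z U) at hw
    rw [he] at hw
    exact hw

lemma awayMap_injective {B τ : Type u} [CommRing B] [SetLike τ B] [AddSubgroupClass τ B] {ℬ : ℕ → τ}
    [GradedRing ℬ] {d e : ℕ} {f z : B} (hf : f ∈ ℬ d) (hz : z ∈ ℬ e) (hzd : ∀ b : B, z * b = 0 → b = 0) :
    Function.Injective (awayMap ℬ hz (rfl : f * z = f * z)) := by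
  rw [injective_iff_map_eq_zero]
  intro q hq
  obtain ⟨n, a, ha, rfl⟩ := Away.mk_surjective ℬ hf q
  rw [awayMap_mk] at hq
  have h := congrArg HomogeneousLocalization.val hq
  rw [Away.val_mk, val_zero, ← Localization.mk_zero 1, Localization.mk_eq_mk_iff, Localization.r_iff_exists] at h
  obtain ⟨⟨_, k, rfl⟩, hk⟩ := h
  have hzp : ∀ (m : ℕ) (b : B), z ^ m * b = 0 → b = 0 := by
    intro m
    induction m with
    | zero => intro b hb; simpa using hb
    | succ m ih => intro b hb; exact hzd b (ih _ (by rw [← mul_assoc, ← pow_succ]; exact hb))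
  have hk' : f ^ k * a = 0 := by
    refine hzp (k + n) _ ?_
    have := hk
    simp only [OneMemClass.coe_one, one_mul, mul_zero, mul_pow] at this
    rw [pow_add]
    linear_combination this
  apply val_injective
  rw [Away.val_mk, val_zero, ← Localization.mk_zero 1, Localization.mk_eq_mk_iff, Localization.r_iff_exists]
  exact ⟨⟨f ^ k, k, rfl⟩, by simpa using hk'⟩

lemma ker_le_bot_of_comp {X W Z : Scheme.{u}} (m : W ⟶ Z) [IsSchemeTheoreticallyDominant m] [QuasiCompact m]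
    (a : Z ⟶ X) [IsOpenImmersion a] (V : X.affineOpens) (hV : (V : X.Opens) = a.opensRange) :
    (m ≫ a).ker.ideal V ≤ ⊥ := by
  refine ((m ≫ a).ideal_ker_le V).trans fun s hs => ?_
  rw [RingHom.mem_ker, Scheme.Hom.comp_app] at hs
  change (m.app _).hom ((a.app V).hom s) = 0 at hs
  rw [map_eq_zero_iff _ (m.app_injective _)] at hs
  have := a.isIso_app (V : X.Opens) hV.le
  exact (Ideal.mem_bot).2 ((map_eq_zero_iff _ (ConcreteCategory.bijective_of_isIso _).1).1 hs)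

lemma isSchemeTheoreticallyDominant_specMap {R T : CommRingCat.{u}} (φ : R ⟶ T)
    (hφ : Function.Injective φ.hom) : IsSchemeTheoreticallyDominant (Spec.map φ) := by
  constructor
  rw [Scheme.ker_of_isAffine]
  have h : RingHom.ker (Spec.map φ).appTop.hom = ⊥ := by
    rw [← RingHom.injective_iff_ker_eq_bot]
    intro a b hab
    have e := fun x => congr($(Scheme.ΓSpecIso_naturality φ).hom x)
    simp only [CommRingCat.hom_comp, RingHom.comp_apply] at e
    have h2 : φ.hom ((Scheme.ΓSpecIso R).hom a) = φ.hom ((Scheme.ΓSpecIso R).hom b) :=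
      ((e a).symm.trans (congrArg _ hab)).trans (e b)
    exact (ConcreteCategory.bijective_of_isIso (Scheme.ΓSpecIso R).hom).1 (hφ h2)
  rw [h]
  exact Scheme.IdealSheafData.ext_of_isAffine (by simp)

/-- `i` has trivial kernel. -/
lemma ker_eq_bot (hP : IsRelProj Sh pC chartC) (hi : IsImm D pC chartC i) : i.ker = ⊥ := by
  have := isAffineHom hP hi
  have := isOpenImmersion hP hi
  let J := Σ U : {U : Y.Opens // IsAffineOpen U},
    {q : ℕ × Sh.presheaf.obj (op U.1) // 0 < q.1 ∧ q.2 ∈ Sh.deg U.1 U.2 q.1}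
  let a : ∀ j : J, Spec (.of (Away (Sh.deg j.1.1 j.1.2) j.2.1.2)) ⟶ PC := fun j =>
    Proj.awayι (Sh.deg j.1.1 j.1.2) j.2.1.2 j.2.2.2 j.2.2.1 ≫ emb pC chartC j.1.1 j.1.2
  refine le_bot_iff.1 (Scheme.IdealSheafData.le_of_iSup_eq_top
    (fun j : J => ⟨(a j).opensRange, isAffineOpen_opensRange _⟩) ?_ ?_)
  · rw [eq_top_iff]
    intro x _
    obtain ⟨U, hU, y, rfl⟩ := RelProjLib.exists_emb_apply_eq (p := pC) (chart := chartC) x
    obtain ⟨d, hd, f, hf, hfy⟩ : ∃ d, 0 < d ∧ ∃ f ∈ Sh.deg U hU d, f ∉ y.asHomogeneousIdeal := by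
      by_contra hne
      push Not at hne
      exact y.not_irrelevant_le ((HomogeneousIdeal.irrelevant_le _).2 fun k hk t ht => hne k hk t ht)
    obtain ⟨w, hw⟩ := (Proj.opensRange_awayι (Sh.deg U hU) f hf hd).ge
      (show y ∈ Proj.basicOpen (Sh.deg U hU) f from hfy)
    exact Opens.mem_iSup.2 ⟨⟨⟨U, hU⟩, ⟨(d, f), hd, hf⟩⟩, w, by rw [← hw]; rfl⟩
  · rintro ⟨⟨U, hU⟩, ⟨⟨d, f⟩, hd, hf⟩⟩
    let zU := restrictTop Sh z U
    let m := Spec.map (CommRingCat.ofHom (awayMap (Sh.deg U hU) (D.deg_z U hU) (rfl : f * zU = f * zU)))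
    have : IsSchemeTheoreticallyDominant m := isSchemeTheoreticallyDominant_specMap _
      (awayMap_injective hf (D.deg_z U hU) fun b hb => mul_z_eq_zero (D.bij U hU) hb)
    have hfz : f * zU ∈ Sh.deg U hU (d + 1) := SetLike.mul_mem_graded (A := Sh.deg U hU) hf (D.deg_z U hU)
    have e : m ≫ Proj.awayι (Sh.deg U hU) f hf hd =
        Proj.awayι (Sh.deg U hU) (f * zU) hfz (Nat.succ_pos d) :=
      Proj.SpecMap_awayMap_awayι (Sh.deg U hU) hf hd (D.deg_z U hU) rfl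
    have hrange : Set.range (m ≫ Proj.awayι (Sh.deg U hU) f hf hd ≫ emb pC chartC U hU) ⊆ Set.range i := by
      rintro _ ⟨w, rfl⟩
      rw [reassoc_of% e, Scheme.Hom.comp_apply, emb_mem_range_iff hP hi U hU]
      intro hm
      exact ((Proj.opensRange_awayι (Sh.deg U hU) (f * zU) hfz (Nat.succ_pos d)).le ⟨w, rfl⟩)
        (Ideal.mul_mem_left _ _ hm)
    have h1 := Scheme.Hom.le_ker_comp (IsOpenImmersion.lift i _ hrange) i
    rw [IsOpenImmersion.lift_fac] at h1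
    refine (h1 _).trans ?_
    exact ker_le_bot_of_comp m (Proj.awayι (Sh.deg U hU) f hf hd ≫ emb pC chartC U hU) _ rfl

end Groth.Agent.RelConeLib
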