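import Groth.Agent.RelProjLib.QMap
import Groth.Agent.RelProjLib.ImmCrit

/-!
# Commutative squares of morphisms `Proj(u)`
-/

set_option autoImplicit false
noncomputable section

universe u

open CategoryTheory CategoryTheory.Limits AlgebraicGeometry TopologicalSpace Opposite HomogeneousLocalization
open scoped HomogeneousIdeal
open RelProj

namespace Groth.Agent.RelConeLib

variable {S S₁ S' : Scheme.{u}} {g : S₁ ⟶ S} {g' : S' ⟶ S₁} {𝒯 : QCGrAlg S} {𝒮 : QCGrAlg S₁} {𝒮' : QCGrAlg S'}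
  {u : QGrHom g 𝒯 𝒮} {v : QGrHom g' 𝒮 𝒮'}
  {P P₁ P' : Scheme.{u}} {p : P ⟶ S} {p₁ : P₁ ⟶ S₁} {p' : P' ⟶ S'}
  {chart : ∀ (U : S.Opens) (hU : IsAffineOpen U), (((p ⁻¹ᵁ U : P.Opens) : Scheme.{u}) ≅ Proj (𝒯.deg U hU))}
  {chart₁ : ∀ (U : S₁.Opens) (hU : IsAffineOpen U), (((p₁ ⁻¹ᵁ U : P₁.Opens) : Scheme.{u}) ≅ Proj (𝒮.deg U hU))}
  {chart' : ∀ (U : S'.Opens) (hU : IsAffineOpen U), (((p' ⁻¹ᵁ U : P'.Opens) : Scheme.{u}) ≅ Proj (𝒮'.deg U hU))}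
  {r : ((domQ u p₁ chart₁ : P₁.Opens) : Scheme.{u}) ⟶ P}
  {rv : ((domQ v p' chart' : P'.Opens) : Scheme.{u}) ⟶ P₁}

/-- One side of a square, on one chart of the source. -/
lemma comp_chart (hr : IsProjQMapOn u p chart p₁ chart₁ (domQ u p₁ chart₁) r)
    (hrv : IsProjQMapOn v p₁ chart₁ p' chart' (domQ v p' chart') rv)
    (U : S.Opens) (hU : IsAffineOpen U) (U₁ : S₁.Opens) (hU₁ : IsAffineOpen U₁) (hle : U₁ ≤ g ⁻¹ᵁ U)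
    (U' : S'.Opens) (hU' : IsAffineOpen U') (hle' : U' ≤ g' ⁻¹ᵁ U₁)
    (φ : 𝒯.deg U hU →+*ᵍ 𝒮'.deg U' hU')
    (hφ : φ = (v.gradedAt U₁ hU₁ U' hU' hle').comp (u.gradedAt U hU U₁ hU₁ hle))
    {d : ℕ} (hd : 0 < d) {f : 𝒯.presheaf.obj (op U)} (hf : f ∈ 𝒯.deg U hU d)
    {T : Scheme.{u}} (s : T ⟶ Spec (.of (Away (𝒮'.deg U' hU') (φ f))))
    (a : T ⟶ (domQ v p' chart' : P'.Opens)) (b : T ⟶ (domQ u p₁ chart₁ : P₁.Opens))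
    (hab : b ≫ (domQ u p₁ chart₁).ι = a ≫ rv)
    (hs : s ≫ Proj.awayι (𝒮'.deg U' hU') (φ f) (φ.2 hf) hd ≫ emb p' chart' U' hU' = a ≫ (domQ v p' chart').ι) :
    b ≫ r = s ≫ Spec.map (CommRingCat.ofHom (Away.map φ f)) ≫
      Proj.awayι (𝒯.deg U hU) f hf hd ≫ emb p chart U hU := by
  subst hφ
  let f₁ := u.gradedAt U hU U₁ hU₁ hle f
  have hf₁ : f₁ ∈ 𝒮.deg U₁ hU₁ d := (u.gradedAt U hU U₁ hU₁ hle).2 hf
  have hWv := range_awayEmb_subset_domQ v p' chart' U₁ hU₁ U' hU' hle' hd f₁ hf₁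
  have hWu := range_awayEmb_subset_domQ u p₁ chart₁ U hU U₁ hU₁ hle hd f hf
  let s' : T ⟶ Spec (.of (Away (𝒮'.deg U' hU') (v.gradedAt U₁ hU₁ U' hU' hle' f₁))) := s
  have ha : a = s' ≫ IsOpenImmersion.lift (domQ v p' chart').ι (awayEmb v p' chart' U₁ hU₁ U' hU' hle' hd f₁ hf₁) hWv := by
    rw [← cancel_mono (domQ v p' chart').ι, Category.assoc, IsOpenImmersion.lift_fac]
    exact hs.symm
  have hb : b = (s' ≫ Spec.map (CommRingCat.ofHom (Away.map (v.gradedAt U₁ hU₁ U' hU' hle') f₁))) ≫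
      IsOpenImmersion.lift (domQ u p₁ chart₁).ι (awayEmb u p₁ chart₁ U hU U₁ hU₁ hle hd f hf) hWu := by
    rw [← cancel_mono (domQ u p₁ chart₁).ι, Category.assoc, IsOpenImmersion.lift_fac, hab, ha, Category.assoc,
      hrv U₁ hU₁ U' hU' hle' d hd f₁ hf₁ hWv, Category.assoc]
    rfl
  rw [hb, Category.assoc, hr U hU U₁ hU₁ hle d hd f hf hWu, Category.assoc]
  show s ≫ _ = s ≫ _
  congr 1
  rw [← Category.assoc, ← Spec.map_comp, ← CommRingCat.ofHom_comp]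
  congr 3
  exact (Away.map_comp _ _ _).symm

lemma exists_affine_nhd {X : Scheme.{u}} (x : X) (O : X.Opens) (hx : x ∈ O) :
    ∃ U : X.Opens, IsAffineOpen U ∧ x ∈ U ∧ U ≤ O := by
  obtain ⟨_, ⟨U, hU, rfl⟩, hxU, hle⟩ := X.isBasis_affineOpens.exists_subset_of_mem_open hx O.2
  exact ⟨U, hU, hxU, hle⟩

section square

variable {S₂ : Scheme.{u}} {g₂ : S₂ ⟶ S} {g₂' : S' ⟶ S₂} {𝒮₂ : QCGrAlg S₂}
  {u₂ : QGrHom g₂ 𝒯 𝒮₂} {v₂ : QGrHom g₂' 𝒮₂ 𝒮'}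
  {P₂ : Scheme.{u}} {p₂ : P₂ ⟶ S₂}
  {chart₂ : ∀ (U : S₂.Opens) (hU : IsAffineOpen U), (((p₂ ⁻¹ᵁ U : P₂.Opens) : Scheme.{u}) ≅ Proj (𝒮₂.deg U hU))}
  {r₂ : ((domQ u₂ p₂ chart₂ : P₂.Opens) : Scheme.{u}) ⟶ P}
  {rv₂ : ((domQ v₂ p' chart' : P'.Opens) : Scheme.{u}) ⟶ P₂}

/-- The data of a common chart at a point. -/
lemma exists_common (hP₁ : IsRelProj 𝒮 p₁ chart₁) (hP' : IsRelProj 𝒮' p' chart')
    (hg : g' ≫ g = g₂' ≫ g₂)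
    (hrv : IsProjQMapOn v p₁ chart₁ p' chart' (domQ v p' chart') rv)
    {T : Scheme.{u}} (a : T ⟶ (domQ v p' chart' : P'.Opens))
    (b : T ⟶ (domQ u p₁ chart₁ : P₁.Opens)) (hb : b ≫ (domQ u p₁ chart₁).ι = a ≫ rv) (τ : T) :
    ∃ (i : RelProjLib.ChartIdx (g := g) (𝒮 := 𝒯)) (U₂ : S₂.Opens) (_ : IsAffineOpen U₂) (_ : U₂ ≤ g₂ ⁻¹ᵁ i.U)
      (U' : S'.Opens) (hU' : IsAffineOpen U') (hle₁' : U' ≤ g' ⁻¹ᵁ i.U') (_ : U' ≤ g₂' ⁻¹ᵁ U₂)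
      (y : Proj (𝒮'.deg U' hU')), emb p' chart' U' hU' y = (a ≫ (domQ v p' chart').ι) τ ∧
        (v.gradedAt i.U' i.hU' U' hU' hle₁').comp (u.gradedAt i.U i.hU i.U' i.hU' i.hle) i.f ∉
          y.asHomogeneousIdeal := by
  -- a chart of `u` at the image of `τ`
  obtain ⟨i, z, hz⟩ := RelProjLib.exists_chart_of_mem_domQ u p₁ chart₁ (b τ).2
  obtain ⟨y₁, hy₁, hy₁f⟩ := (RelProjLib.mem_range_e u p₁ chart₁).1 ⟨z, hz⟩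
  -- the point of `P'`
  have hx₁ : ((b ≫ (domQ u p₁ chart₁).ι) τ : P₁) = emb p₁ chart₁ i.U' i.hU' y₁ := hy₁.symm
  let x' : P' := (a ≫ (domQ v p' chart').ι) τ
  have hover : p₁ (emb p₁ chart₁ i.U' i.hU' y₁) = g' (p' x') := by
    rw [← hx₁, hb, ← Scheme.Hom.comp_apply, Category.assoc,
      RelProjLib.comp_of_isProjQMapOn v p₁ p' hP₁ hP' hrv, ← Category.assoc, ← Category.assoc,
      Scheme.Hom.comp_apply, Scheme.Hom.comp_apply]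
  have hx'1 : g' (p' x') ∈ i.U' := hover ▸ RelProjLib.emb_mem_base 𝒮 i.U' i.hU' y₁
  have hgx : g₂ (g₂' (p' x')) ∈ i.U := by
    rw [← Scheme.Hom.comp_apply g₂' g₂, ← hg, Scheme.Hom.comp_apply]
    exact i.hle hx'1
  obtain ⟨U₂, hU₂, hxU₂, hle₂⟩ := exists_affine_nhd (g₂' (p' x')) (g₂ ⁻¹ᵁ i.U) hgx
  obtain ⟨U', hU', hxU', hle'⟩ := exists_affine_nhd (p' x') (g' ⁻¹ᵁ i.U' ⊓ g₂' ⁻¹ᵁ U₂) ⟨hx'1, hxU₂⟩
  have hle₁' : U' ≤ g' ⁻¹ᵁ i.U' := fun t ht => (hle' ht).1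
  have hle₂' : U' ≤ g₂' ⁻¹ᵁ U₂ := fun t ht => (hle' ht).2
  obtain ⟨y, hy⟩ := RelProjLib.exists_emb_eq 𝒮' hU' hxU' (p := p') (chart := chart')
  let φ := (v.gradedAt i.U' i.hU' U' hU' hle₁').comp (u.gradedAt i.U i.hU i.U' i.hU' i.hle)
  have hyd : emb p' chart' U' hU' y ∈ domQ v p' chart' := by rw [hy]; exact (a τ).2
  have hφy : φ i.f ∉ y.asHomogeneousIdeal := by
    refine (RelProjLib.mem_image_basicOpen_iff v p₁ p' hP₁ hP' hrv i.hU' hU' hle₁' i.hd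
      ((u.gradedAt i.U i.hU i.U' i.hU' i.hle).2 i.hf) y hyd).1 ?_
    have e : (⟨emb p' chart' U' hU' y, hyd⟩ : (domQ v p' chart' : P'.Opens)) = a τ := Subtype.ext hy
    rw [e, ← Scheme.Hom.comp_apply, ← hb, hx₁]
    exact ⟨y₁, hy₁f, rfl⟩
  exact ⟨i, U₂, hU₂, hle₂, U', hU', hle₁', hle₂', y, hy, hφy⟩

/-- Two ways of composing morphisms `Proj(u)` agree if the graded homomorphisms do. -/
lemma square (hP₁ : IsRelProj 𝒮 p₁ chart₁) (hP' : IsRelProj 𝒮' p' chart')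
    (hg : g' ≫ g = g₂' ≫ g₂)
    (hcomm : ∀ (U : S.Opens) (hU : IsAffineOpen U) (U₁ : S₁.Opens) (hU₁ : IsAffineOpen U₁) (hle₁ : U₁ ≤ g ⁻¹ᵁ U)
      (U₂ : S₂.Opens) (hU₂ : IsAffineOpen U₂) (hle₂ : U₂ ≤ g₂ ⁻¹ᵁ U) (U' : S'.Opens) (hU' : IsAffineOpen U')
      (hle₁' : U' ≤ g' ⁻¹ᵁ U₁) (hle₂' : U' ≤ g₂' ⁻¹ᵁ U₂) (x : 𝒯.presheaf.obj (op U)),
      v.gradedAt U₁ hU₁ U' hU' hle₁' (u.gradedAt U hU U₁ hU₁ hle₁ x) =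
        v₂.gradedAt U₂ hU₂ U' hU' hle₂' (u₂.gradedAt U hU U₂ hU₂ hle₂ x))
    (hr : IsProjQMapOn u p chart p₁ chart₁ (domQ u p₁ chart₁) r)
    (hrv : IsProjQMapOn v p₁ chart₁ p' chart' (domQ v p' chart') rv)
    (hr₂ : IsProjQMapOn u₂ p chart p₂ chart₂ (domQ u₂ p₂ chart₂) r₂)
    (hrv₂ : IsProjQMapOn v₂ p₂ chart₂ p' chart' (domQ v₂ p' chart') rv₂)
    {T : Scheme.{u}} (a : T ⟶ (domQ v p' chart' : P'.Opens)) (a₂ : T ⟶ (domQ v₂ p' chart' : P'.Opens))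
    (haa : a ≫ (domQ v p' chart').ι = a₂ ≫ (domQ v₂ p' chart').ι)
    (b : T ⟶ (domQ u p₁ chart₁ : P₁.Opens)) (b₂ : T ⟶ (domQ u₂ p₂ chart₂ : P₂.Opens))
    (hb : b ≫ (domQ u p₁ chart₁).ι = a ≫ rv) (hb₂ : b₂ ≫ (domQ u₂ p₂ chart₂).ι = a₂ ≫ rv₂) :
    b ≫ r = b₂ ≫ r₂ := by
  refine Scheme.hom_ext_of_forall _ _ fun τ => ?_
  obtain ⟨i, U₂, hU₂, hle₂, U', hU', hle₁', hle₂', y, hy, hφy⟩ :=
    exists_common (g₂ := g₂) (g₂' := g₂') hP₁ hP' hg hrv a b hb τ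
  let φ := (v.gradedAt i.U' i.hU' U' hU' hle₁').comp (u.gradedAt i.U i.hU i.U' i.hU' i.hle)
  have hφ₂ : φ = (v₂.gradedAt U₂ hU₂ U' hU' hle₂').comp (u₂.gradedAt i.U i.hU U₂ hU₂ hle₂) :=
    GradedRingHom.ext fun x => hcomm i.U i.hU i.U' i.hU' i.hle U₂ hU₂ hle₂ U' hU' hle₁' hle₂' x
  obtain ⟨w, hw⟩ := (Proj.opensRange_awayι (𝒮'.deg U' hU') (φ i.f) (φ.2 i.hf) i.hd).ge
    (show y ∈ Proj.basicOpen (𝒮'.deg U' hU') (φ i.f) from hφy)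
  let J := Proj.awayι (𝒮'.deg U' hU') (φ i.f) (φ.2 i.hf) i.hd ≫ emb p' chart' U' hU'
  let V := (a ≫ (domQ v p' chart').ι) ⁻¹ᵁ J.opensRange
  refine ⟨V, ⟨w, ?_⟩, ?_⟩
  · show J w = _
    rw [Scheme.Hom.comp_apply, hw, hy]
  let s := IsOpenImmersion.lift J (V.ι ≫ a ≫ (domQ v p' chart').ι) (by
    rintro _ ⟨t, rfl⟩
    exact t.2)
  have hs : s ≫ J = V.ι ≫ a ≫ (domQ v p' chart').ι := IsOpenImmersion.lift_fac _ _ _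
  have h1 := comp_chart hr hrv i.U i.hU i.U' i.hU' i.hle U' hU' hle₁' φ rfl i.hd i.hf s (V.ι ≫ a) (V.ι ≫ b)
    (by rw [Category.assoc, hb, Category.assoc]) (by rw [Category.assoc]; exact hs)
  have h2 := comp_chart hr₂ hrv₂ i.U i.hU U₂ hU₂ hle₂ U' hU' hle₂' φ hφ₂ i.hd i.hf s (V.ι ≫ a₂) (V.ι ≫ b₂)
    (by rw [Category.assoc, hb₂, Category.assoc]) (by rw [Category.assoc, ← haa]; exact hs)
  rw [Category.assoc] at h1 h2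
  exact h1.trans h2.symm

/-- If one composite is defined at the points of `T`, so is the other. -/
lemma range_subset_domQ (hP₁ : IsRelProj 𝒮 p₁ chart₁) (hP₂ : IsRelProj 𝒮₂ p₂ chart₂) (hP' : IsRelProj 𝒮' p' chart')
    (hg : g' ≫ g = g₂' ≫ g₂)
    (hcomm : ∀ (U : S.Opens) (hU : IsAffineOpen U) (U₁ : S₁.Opens) (hU₁ : IsAffineOpen U₁) (hle₁ : U₁ ≤ g ⁻¹ᵁ U)
      (U₂ : S₂.Opens) (hU₂ : IsAffineOpen U₂) (hle₂ : U₂ ≤ g₂ ⁻¹ᵁ U) (U' : S'.Opens) (hU' : IsAffineOpen U')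
      (hle₁' : U' ≤ g' ⁻¹ᵁ U₁) (hle₂' : U' ≤ g₂' ⁻¹ᵁ U₂) (x : 𝒯.presheaf.obj (op U)),
      v.gradedAt U₁ hU₁ U' hU' hle₁' (u.gradedAt U hU U₁ hU₁ hle₁ x) =
        v₂.gradedAt U₂ hU₂ U' hU' hle₂' (u₂.gradedAt U hU U₂ hU₂ hle₂ x))
    (hrv : IsProjQMapOn v p₁ chart₁ p' chart' (domQ v p' chart') rv)
    (hrv₂ : IsProjQMapOn v₂ p₂ chart₂ p' chart' (domQ v₂ p' chart') rv₂)
    {T : Scheme.{u}} (a : T ⟶ (domQ v p' chart' : P'.Opens)) (a₂ : T ⟶ (domQ v₂ p' chart' : P'.Opens))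
    (haa : a ≫ (domQ v p' chart').ι = a₂ ≫ (domQ v₂ p' chart').ι)
    (b : T ⟶ (domQ u p₁ chart₁ : P₁.Opens)) (hb : b ≫ (domQ u p₁ chart₁).ι = a ≫ rv) :
    Set.range (a₂ ≫ rv₂) ⊆ ((domQ u₂ p₂ chart₂ : P₂.Opens) : Set P₂) := by
  rintro _ ⟨τ, rfl⟩
  obtain ⟨i, U₂, hU₂, hle₂, U', hU', hle₁', hle₂', y, hy, hφy⟩ :=
    exists_common (g₂ := g₂) (g₂' := g₂') hP₁ hP' hg hrv a b hb τ
  rw [GradedRingHom.comp_apply, hcomm i.U i.hU i.U' i.hU' i.hle U₂ hU₂ hle₂ U' hU' hle₁' hle₂' i.f] at hφy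
  rw [haa, Scheme.Hom.comp_apply] at hy
  have hyd : emb p' chart' U' hU' y ∈ domQ v₂ p' chart' := by rw [hy]; exact (a₂ τ).2
  have hm := (RelProjLib.mem_image_basicOpen_iff v₂ p₂ p' hP₂ hP' hrv₂ hU₂ hU' hle₂' i.hd
    ((u₂.gradedAt i.U i.hU U₂ hU₂ hle₂).2 i.hf) y hyd).2 hφy
  rw [show (⟨emb p' chart' U' hU' y, hyd⟩ : (domQ v₂ p' chart' : P'.Opens)) = a₂ τ from Subtype.ext hy,
    ← Scheme.Hom.comp_apply] at hm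
  obtain ⟨y₂, hy₂, e⟩ := hm
  rw [← e]
  have hd : y₂ ∈ RelCone.domOpen (u₂.gradedAt i.U i.hU U₂ hU₂ hle₂) :=
    (RelCone.mem_domOpen _ _).2 ⟨i.f, HomogeneousIdeal.mem_irrelevant_of_mem _ i.hd i.hf, hy₂⟩
  exact Opens.mem_iSup.2 ⟨⟨(⟨i.U, i.hU⟩, ⟨U₂, hU₂⟩), hle₂⟩, y₂, hd, rfl⟩

end square

end Groth.Agent.RelConeLib
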