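import Groth.Agent.RelConeLib.Pointed
import Groth.Agent.RelConeLib.Square

/-!
# Extending a graded `q`-morphism to the algebras with one variable adjoined
-/

set_option autoImplicit false
noncomputable section

universe u

open CategoryTheory CategoryTheory.Limits AlgebraicGeometry TopologicalSpace Opposite
open scoped HomogeneousIdeal
open RelProj RelCone

namespace Groth.Agent.RelConeLib

variable {Y Y' : Scheme.{u}} {q : Y' ⟶ Y} {𝒮 : QCGrAlg Y} {𝒮' : QCGrAlg Y'} {u : QGrHom q 𝒮 𝒮'}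
  {𝒮h : QCGrAlg Y} {ι : 𝒮.toQCAlg ⟶ 𝒮h.toQCAlg} {z : 𝒮h.presheaf.obj (op ⊤)}
  {𝒮h' : QCGrAlg Y'} {ι' : 𝒮'.toQCAlg ⟶ 𝒮h'.toQCAlg} {z' : 𝒮h'.presheaf.obj (op ⊤)}
  {uh : QGrHom q 𝒮h 𝒮h'}

lemma appLE_ι (huh : ∀ U : Y.Opens, ι.hom.app (op U) ≫ uh.app U = u.app U ≫ ι'.hom.app (op (q ⁻¹ᵁ U)))
    (U : Y.Opens) (U' : Y'.Opens) (hle : U' ≤ q ⁻¹ᵁ U) (a : 𝒮.presheaf.obj (op U)) :
    (uh.appLE U U' hle).hom ((ι.hom.app (op U)).hom a) = (ι'.hom.app (op U')).hom ((u.appLE U U' hle).hom a) := by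
  rw [← CommRingCat.comp_apply, ← CommRingCat.comp_apply]
  congr 2
  rw [RelSpec.QHom.appLE_eq, RelSpec.QHom.appLE_eq, reassoc_of% (huh U), Category.assoc]
  exact congrArg (u.app U ≫ ·) (ι'.hom.naturality (homOfLE hle).op).symm

lemma appLE_z (huhz : (uh.app ⊤).hom z = restrictTop 𝒮h' z' (q ⁻¹ᵁ ⊤))
    (U : Y.Opens) (U' : Y'.Opens) (hle : U' ≤ q ⁻¹ᵁ U) :
    (uh.appLE U U' hle).hom (restrictTop 𝒮h z U) = restrictTop 𝒮h' z' U' := by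
  show ((𝒮h.presheaf.map (homOfLE le_top).op) ≫ uh.appLE U U' hle).hom z = _
  rw [uh.toQHom.map_appLE le_top hle, RelSpec.QHom.appLE_eq, CommRingCat.comp_apply, huhz, restrictTop_map]

lemma gradedAt_ι (huh : ∀ U : Y.Opens, ι.hom.app (op U) ≫ uh.app U = u.app U ≫ ι'.hom.app (op (q ⁻¹ᵁ U)))
    (hι : IsGradedHom ι) (hι' : IsGradedHom ι')
    (U : Y.Opens) (hU : IsAffineOpen U) (U' : Y'.Opens) (hU' : IsAffineOpen U') (hle : U' ≤ q ⁻¹ᵁ U)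
    (a : 𝒮.presheaf.obj (op U)) :
    uh.gradedAt U hU U' hU' hle (gradedHomAt ι hι U hU a) =
      gradedHomAt ι' hι' U' hU' (u.gradedAt U hU U' hU' hle a) :=
  appLE_ι huh U U' hle a

variable (hz : IsPolyOver 𝒮 𝒮h ι z) {PC PC' : Scheme.{u}} {pC : PC ⟶ Y} {pC' : PC' ⟶ Y'}
  {chartC : ∀ (U : Y.Opens) (hU : IsAffineOpen U), (((pC ⁻¹ᵁ U : PC.Opens) : Scheme.{u}) ≅ Proj (𝒮h.deg U hU))}
  {chartC' : ∀ (U : Y'.Opens) (hU : IsAffineOpen U), (((pC' ⁻¹ᵁ U : PC'.Opens) : Scheme.{u}) ≅ Proj (𝒮h'.deg U hU))}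

lemma qmap_mem_pointed_iff (hC : IsRelProj 𝒮h pC chartC) (hC' : IsRelProj 𝒮h' pC' chartC')
    {r : ((domQ uh pC' chartC' : PC'.Opens) : Scheme.{u}) ⟶ PC}
    (hr : IsProjQMapOn uh pC chartC pC' chartC' (domQ uh pC' chartC') r)
    (U : Y.Opens) (hU : IsAffineOpen U) (U' : Y'.Opens) (hU' : IsAffineOpen U') (hle : U' ≤ q ⁻¹ᵁ U)
    (y : Proj (𝒮h'.deg U' hU')) (hy : emb pC' chartC' U' hU' y ∈ domQ uh pC' chartC') :
    r ⟨_, hy⟩ ∈ pointedProjCone 𝒮 hz pC chartC ↔ ∃ (n : ℕ) (a : 𝒮.presheaf.obj (op U)), 0 < n ∧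
      a ∈ 𝒮.deg U hU n ∧ uh.gradedAt U hU U' hU' hle (gradedHomAt ι hz.graded U hU a) ∉ y.asHomogeneousIdeal := by
  have hover : pC (r ⟨_, hy⟩) ∈ U := by
    show (r ≫ pC) ⟨emb pC' chartC' U' hU' y, hy⟩ ∈ U
    rw [RelProjLib.comp_of_isProjQMapOn uh pC pC' hC hC' hr]
    exact hle (RelProjLib.emb_mem_base 𝒮h' U' hU' y)
  obtain ⟨y₀, hy₀⟩ := RelProjLib.exists_emb_eq 𝒮h hU hover (p := pC) (chart := chartC)
  rw [← hy₀, mem_pointedProjCone_iff hz hC U hU, mem_domOpen_iff]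
  refine exists_congr fun n => exists_congr fun a => and_congr_right fun hn => and_congr_right fun ha => ?_
  refine Iff.trans ?_ (RelProjLib.mem_image_basicOpen_iff uh pC pC' hC hC' hr hU hU' hle hn
    ((gradedHomAt ι hz.graded U hU).2 ha) y hy)
  rw [← hy₀]
  exact ⟨fun h => ⟨y₀, h, rfl⟩, fun ⟨w, hw, e⟩ => (emb pC chartC U hU).isOpenEmbedding.injective e ▸ hw⟩

/-- `hom_ext` for a relative spectrum over pairs of affine opens. -/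
lemma hom_ext_pairs {A : RelSpec.QCAlg Y'} {Z : Scheme.{u}} {g g' : A.spec ⟶ Z}
    (h : ∀ (U : Y.Opens) (_ : IsAffineOpen U) (U' : Y'.Opens) (hU' : IsAffineOpen U'), U' ≤ q ⁻¹ᵁ U →
      A.ι U' hU' ≫ g = A.ι U' hU' ≫ g') : g = g' := by
  let K : Y'.Opens → Prop := fun U' => ∃ U : Y.Opens, IsAffineOpen U ∧ U' ≤ q ⁻¹ᵁ U
  obtain ⟨G, -, hu⟩ := RelSpecLib.existsUnique_glue A (Z := Z) K
    (fun x => by
      obtain ⟨U, hU, hxU, -⟩ := exists_affine_nhd (q x) ⊤ trivial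
      obtain ⟨U', hU', hxU', hle⟩ := exists_affine_nhd x (q ⁻¹ᵁ U) hxU
      exact ⟨U', hU', hxU', U, hU, hle⟩)
    (fun _ _ _ i ⟨U, hU, hle⟩ => ⟨U, hU, i.trans hle⟩) (fun U' hU' _ => A.ι U' hU' ≫ g)
    (fun _ _ hU' hV' i _ _ => by rw [← Category.assoc, RelSpecLib.map_res_ι A hU' hV' i])
  exact (hu g fun _ _ _ => rfl).trans (hu g' fun U' hU' ⟨U, hU, hle⟩ => (h U hU U' hU' hle).symm).symm

end Groth.Agent.RelConeLib
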