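import Groth.Agent.RelConeLib.Ring
import Groth.Agent.ProjSpec.ConeFibre

/-!
# Homogeneous localizations of `A[z]` at an element of `A` (gradings by additive subgroups)
-/

set_option autoImplicit false
universe u

open CategoryTheory AlgebraicGeometry HomogeneousLocalization

noncomputable section

namespace Groth.Agent.RelConeLib

variable {A σ : Type u} [CommRing A] [SetLike σ A] [AddSubgroupClass σ A] {𝒜 : ℕ → σ} [GradedRing 𝒜]

section lift

variable {B : Type u} [CommRing B] (f : A →+* B) {g : A} (hu : IsUnit (f g))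

variable (𝒜) in
/-- The ring map `A_(g) → B` induced by `f : A → B` with `f g` a unit. -/
def liftAway : Away 𝒜 g →+* B :=
  (IsLocalization.Away.lift (S := Localization.Away g) g hu).comp (algebraMap (Away 𝒜 g) (Localization.Away g))

lemma liftAway_apply (z : Away 𝒜 g) :
    liftAway 𝒜 f hu z = IsLocalization.Away.lift (S := Localization.Away g) g hu z.val := rfl

lemma liftAway_mk {k : ℕ} (hg : g ∈ 𝒜 k) (d : ℕ) (a : A) (ha : a ∈ 𝒜 (d • k)) :
    liftAway 𝒜 f hu (Away.mk 𝒜 hg d a ha) * f g ^ d = f a := by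
  rw [liftAway_apply, Away.val_mk, Localization.mk_eq_mk', ← map_pow,
    ← IsLocalization.Away.lift_eq (S := Localization.Away g) g hu (g ^ d), ← map_mul]
  exact (congrArg _ (IsLocalization.mk'_spec (Localization.Away g) a
    (⟨g ^ d, d, rfl⟩ : Submonoid.powers g))).trans (IsLocalization.Away.lift_eq g hu a)

/-- The homs that differ by the `d`-th power of a factor in degree `d` have the same chart map. -/
lemma liftAway_congr {f' : A →+* B} (hu' : IsUnit (f' g)) (w : B)
    (h : ∀ (d : ℕ) (a : A), a ∈ 𝒜 d → f' a = w ^ d * f a) {k : ℕ} (hg : g ∈ 𝒜 k) :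
    liftAway 𝒜 f' hu' = liftAway (g := g) 𝒜 f hu := by
  refine RingHom.ext fun z => ?_
  obtain ⟨d, a, ha, rfl⟩ := Away.mk_surjective 𝒜 hg z
  refine (hu'.pow d).mul_right_cancel ((liftAway_mk f' hu' hg d a ha).trans ?_)
  rw [h _ _ ha, h _ _ hg, smul_eq_mul, mul_pow, ← pow_mul, mul_comm k d,
    ← liftAway_mk f hu hg d a ha]
  ring

lemma liftAway_awayMap {e : ℕ} {g' : A} (hg' : g' ∈ 𝒜 e) {x : A} (hx : x = g * g')
    (hux : IsUnit (f x)) :
    (liftAway 𝒜 f hux).comp (awayMap 𝒜 hg' hx) = liftAway 𝒜 f hu := by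
  refine RingHom.ext fun z => ?_
  rw [RingHom.comp_apply, liftAway_apply, liftAway_apply, val_awayMap]
  refine DFunLike.congr_fun (f := (IsLocalization.Away.lift (S := Localization.Away x) x hux).comp
    (Localization.awayLift (algebraMap A _) g _)) ?_ z.val
  refine IsLocalization.ringHom_ext (Submonoid.powers g) (RingHom.ext fun a => ?_)
  simp [IsLocalization.Away.lift_eq]

lemma liftAway_fromZero (a : 𝒜 0) :
    liftAway 𝒜 f hu (fromZeroRingHom 𝒜 (Submonoid.powers g) a) = f a := by
  rw [liftAway_apply]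
  refine (congrArg _ (?_ : (fromZeroRingHom 𝒜 (Submonoid.powers g) a).val =
    algebraMap A (Localization.Away g) a)).trans (IsLocalization.Away.lift_eq g hu _)
  simp [fromZeroRingHom]
  rfl

lemma comp_liftAway {B' : Type u} [CommRing B'] (φ : B →+* B') :
    φ.comp (liftAway 𝒜 f hu) = liftAway (g := g) 𝒜 (φ.comp f) (hu.map φ) := by
  refine RingHom.ext fun z => ?_
  rw [RingHom.comp_apply, liftAway_apply, liftAway_apply]
  refine DFunLike.congr_fun (f := φ.comp (IsLocalization.Away.lift (S := Localization.Away g) g hu)) ?_ z.val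
  refine IsLocalization.ringHom_ext (Submonoid.powers g) (RingHom.ext fun a => ?_)
  simp [IsLocalization.Away.lift_eq]

end lift

/-- Two standard charts receive the same morphism. -/
lemma specMap_liftAway_awayι {C : Type u} [CommRing C] (f : A →+* C) {g g' : A} (hu : IsUnit (f g))
    (hu' : IsUnit (f g')) {k k' : ℕ} (hg : g ∈ 𝒜 k) (hk : 0 < k) (hg' : g' ∈ 𝒜 k') (hk' : 0 < k') :
    Spec.map (CommRingCat.ofHom (liftAway 𝒜 f hu)) ≫ Proj.awayι 𝒜 g hg hk =
      Spec.map (CommRingCat.ofHom (liftAway 𝒜 f hu')) ≫ Proj.awayι 𝒜 g' hg' hk' := by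
  have hux : IsUnit (f (g * g')) := by rw [map_mul]; exact hu.mul hu'
  rw [← liftAway_awayMap f hu hg' rfl hux, ← liftAway_awayMap f hu' hg (mul_comm g g') hux,
    CommRingCat.ofHom_comp, CommRingCat.ofHom_comp, Spec.map_comp, Spec.map_comp, Category.assoc, Category.assoc,
    Proj.SpecMap_awayMap_awayι 𝒜 hg hk hg' rfl, Proj.SpecMap_awayMap_awayι 𝒜 hg' hk' hg (mul_comm g g')]
  rfl

variable {B τ : Type u} [CommRing B] [SetLike τ B] [AddSubgroupClass τ B] {ℬ : ℕ → τ} [GradedRing ℬ]

section poly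

variable {φ : 𝒜 →+*ᵍ ℬ}
  {z : B} (hhat : Function.Bijective (Polynomial.eval₂RingHom (φ : A →+* B) z)) {f : A} (hf : f ∈ 𝒜 1)

theorem map_comp_dehom :
    (Away.map φ f).comp (ZetaLib.dehom 𝒜 hf) = (ZetaLib.dehom ℬ (φ.2 hf)).comp φ.toRingHom := by
  classical
  refine RingHom.ext fun a => ?_
  rw [← DirectSum.sum_support_decompose 𝒜 a]
  simp only [map_sum, RingHom.comp_apply]
  refine Finset.sum_congr rfl fun i _ => ?_
  rw [ZetaLib.dehom_of_mem 𝒜 hf (SetLike.coe_mem _), Away.map_mk]
  exact (ZetaLib.dehom_of_mem ℬ (φ.2 hf) (φ.2 (SetLike.coe_mem _))).symm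

include hhat hf in
theorem exists_polynomial_equiv :
    ∃ e : Polynomial (Away 𝒜 f) ≃+* Away ℬ (φ f),
      ∀ c, e (Polynomial.C c) = Away.map φ f c := by
  let e₀ : Polynomial A ≃+* B := RingEquiv.ofBijective _ hhat
  have heC : ∀ a, e₀ (Polynomial.C a) = φ a := fun a => Polynomial.eval₂_C (φ : A →+* B) z
  have heX : e₀ Polynomial.X = z := Polynomial.eval₂_X (φ : A →+* B) z
  let Φ : Polynomial (Away 𝒜 f) →+* Away ℬ (φ f) :=
    Polynomial.eval₂RingHom (Away.map φ f) (ZetaLib.dehom ℬ (φ.2 hf) z)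
  let Ψ : B →+* Polynomial (Away 𝒜 f) :=
    (Polynomial.mapRingHom (ZetaLib.dehom 𝒜 hf)).comp e₀.symm.toRingHom
  have hΨφ : ∀ a, Ψ (φ a) = Polynomial.C (ZetaLib.dehom 𝒜 hf a) := fun a => by
    show Polynomial.map _ (e₀.symm (φ a)) = _
    rw [← heC, RingEquiv.symm_apply_apply, Polynomial.map_C]
  have hΨz : Ψ z = Polynomial.X := by
    show Polynomial.map _ (e₀.symm z) = _
    rw [← heX, RingEquiv.symm_apply_apply, Polynomial.map_X]
  have hdf : ZetaLib.dehom 𝒜 hf f = 1 := by
    rw [ZetaLib.dehom_of_mem 𝒜 hf hf]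
    refine val_injective _ ?_
    simp [Localization.mk_self ⟨f, Submonoid.mem_powers f⟩]
  have hΨf : Ψ (φ f) = 1 := by rw [hΨφ, hdf, map_one]
  have hu : IsUnit (Ψ (φ f)) := hΨf ▸ isUnit_one
  let Ψ' : Away ℬ (φ f) →+* Polynomial (Away 𝒜 f) := liftAway ℬ Ψ hu
  have hΨ' : ∀ b, Ψ' (ZetaLib.dehom ℬ (φ.2 hf) b) = Ψ b := by
    classical
    intro b
    rw [← DirectSum.sum_support_decompose ℬ b]
    simp only [map_sum]
    refine Finset.sum_congr rfl fun i _ => ?_
    have h := liftAway_mk (𝒜 := ℬ) Ψ hu (φ.2 hf) i (DirectSum.decompose ℬ b i : B) (by simp)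
    rw [hΨf, one_pow, mul_one] at h
    exact (congrArg _ (ZetaLib.dehom_of_mem ℬ (φ.2 hf) (SetLike.coe_mem _))).trans h
  have hΦΨ : ∀ b, Φ (Ψ b) = ZetaLib.dehom ℬ (φ.2 hf) b := by
    intro b
    obtain ⟨q, rfl⟩ := hhat.2 b
    induction q using Polynomial.induction_on' with
    | add p q hp hq => rw [map_add, map_add, map_add, map_add, hp, hq]
    | monomial k a =>
      simp only [Polynomial.coe_eval₂RingHom, Polynomial.eval₂_monomial, RingHom.coe_coe]
      rw [map_mul, map_mul, map_mul, map_pow, map_pow, map_pow, hΨφ, hΨz]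
      simp only [Φ, Polynomial.coe_eval₂RingHom, Polynomial.eval₂_C, Polynomial.eval₂_X]
      exact congrArg (· * _) (RingHom.congr_fun (map_comp_dehom (φ := φ) hf) a)
  have h1 : Ψ'.comp Φ = RingHom.id _ := by
    refine Polynomial.ringHom_ext (fun c => ?_) ?_
    · obtain ⟨a, rfl⟩ := ZetaLib.dehom_surjective 𝒜 hf c
      simp only [RingHom.comp_apply, Φ, Polynomial.coe_eval₂RingHom, Polynomial.eval₂_C, RingHom.id_apply]
      exact (congrArg Ψ' (RingHom.congr_fun (map_comp_dehom (φ := φ) hf) a)).trans ((hΨ' _).trans (hΨφ a))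
    · simp only [RingHom.comp_apply, Φ, Polynomial.coe_eval₂RingHom, Polynomial.eval₂_X, RingHom.id_apply]
      exact (hΨ' _).trans hΨz
  have h2 : Φ.comp Ψ' = RingHom.id _ := by
    refine RingHom.ext fun y => ?_
    obtain ⟨b, rfl⟩ := ZetaLib.dehom_surjective ℬ (φ.2 hf) y
    exact (congrArg Φ (hΨ' b)).trans (hΦΨ b)
  refine ⟨RingEquiv.ofRingHom Φ Ψ' h2 h1, fun c => ?_⟩
  exact Polynomial.eval₂_C _ _

end poly

section laurent

variable {f : A} (hf : f ∈ 𝒜 1)

/-- `a ↦ Σ (aₙ / fⁿ) Tⁿ`. -/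
def laurentHom : A →+* LaurentPolynomial (Away 𝒜 f) :=
  (DirectSum.toSemiring
    (fun i => AddMonoidHom.mk' (fun x : 𝒜 i => LaurentPolynomial.C (Away.mk 𝒜 hf i (x : A) (by simp)) *
        LaurentPolynomial.T (i : ℤ))
      (fun x y => by
        rw [← add_mul, ← map_add]
        congr 2
        apply val_injective
        simp [val_add, Localization.add_mk_self]))
    (by
      rw [AddMonoidHom.mk'_apply, Nat.cast_zero, LaurentPolynomial.T_zero, mul_one, ← map_one LaurentPolynomial.C]
      congr 1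
      apply val_injective
      simp [Localization.mk_self])
    (fun {i j} x y => by
      rw [AddMonoidHom.mk'_apply, AddMonoidHom.mk'_apply, AddMonoidHom.mk'_apply, mul_mul_mul_comm,
        ← map_mul, ← LaurentPolynomial.T_add, Nat.cast_add]
      congr 2
      apply val_injective
      simp [val_mul, Localization.mk_mul, pow_add])).comp
    (DirectSum.decomposeRingEquiv 𝒜).toRingHom

theorem laurentHom_of_mem {i : ℕ} {x : A} (hx : x ∈ 𝒜 i) :
    laurentHom hf x = LaurentPolynomial.C (Away.mk 𝒜 hf i x (by simpa using hx)) * LaurentPolynomial.T (i : ℤ) := by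
  simp only [laurentHom, RingHom.comp_apply]
  erw [DirectSum.decompose_of_mem 𝒜 hx]
  rw [DirectSum.toSemiring_of]
  rfl

include hf in
theorem exists_laurent_equiv :
    ∃ e : LaurentPolynomial (Away 𝒜 f) ≃+* Localization.Away f,
      ∀ c, e (LaurentPolynomial.C c) = algebraMap (Away 𝒜 f) (Localization.Away f) c := by
  have hlf : laurentHom hf f = LaurentPolynomial.T 1 := by
    have h : Away.mk 𝒜 hf 1 f (by simpa using hf) = 1 := by
      refine val_injective _ ?_
      simp [Localization.mk_self ⟨f, Submonoid.mem_powers f⟩]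
    rw [laurentHom_of_mem hf hf, h, map_one, one_mul, Nat.cast_one]
  let uf : (Localization.Away f)ˣ :=
    (IsLocalization.Away.algebraMap_isUnit (S := Localization.Away f) f).unit
  let Φ : LaurentPolynomial (Away 𝒜 f) →+* Localization.Away f :=
    LaurentPolynomial.eval₂ (algebraMap (Away 𝒜 f) (Localization.Away f)) uf
  have hu : IsUnit (laurentHom hf f) := hlf ▸ LaurentPolynomial.isUnit_T 1
  let Ψ : Localization.Away f →+* LaurentPolynomial (Away 𝒜 f) := IsLocalization.Away.lift f hu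
  have hΨ : ∀ a, Ψ (algebraMap A _ a) = laurentHom hf a := fun a => IsLocalization.Away.lift_eq _ hu a
  have key : ∀ (i : ℕ) (a : A) (ha : a ∈ 𝒜 i),
      Φ (laurentHom hf a) = algebraMap A (Localization.Away f) a := by
    intro i a ha
    rw [laurentHom_of_mem hf ha, LaurentPolynomial.eval₂_C_mul_T_n, HomogeneousLocalization.algebraMap_apply,
      Away.val_mk, Localization.mk_eq_mk', show (uf : Localization.Away f) = algebraMap A _ f from rfl,
      ← map_pow]
    exact IsLocalization.mk'_spec (Localization.Away f) a (⟨f ^ i, i, rfl⟩ : Submonoid.powers f)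
  have h1 : Φ.comp Ψ = RingHom.id _ := by
    classical
    refine IsLocalization.ringHom_ext (Submonoid.powers f) (RingHom.ext fun a => ?_)
    rw [RingHom.comp_apply, RingHom.comp_apply, hΨ, RingHom.id_comp]
    conv_lhs => rw [← DirectSum.sum_support_decompose 𝒜 a]
    conv_rhs => rw [← DirectSum.sum_support_decompose 𝒜 a]
    simp only [map_sum]
    exact Finset.sum_congr rfl fun i _ => key i _ (SetLike.coe_mem _)
  have hC : ∀ c, Ψ (algebraMap (Away 𝒜 f) (Localization.Away f) c) = LaurentPolynomial.C c := by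
    intro c
    obtain ⟨i, a, ha, rfl⟩ := Away.mk_surjective 𝒜 hf c
    refine (hu.pow i).mul_right_cancel ?_
    have h : algebraMap (Away 𝒜 f) (Localization.Away f) (Away.mk 𝒜 hf i a ha) *
        algebraMap A (Localization.Away f) (f ^ i) = algebraMap A (Localization.Away f) a := by
      rw [HomogeneousLocalization.algebraMap_apply, Away.val_mk, Localization.mk_eq_mk']
      exact IsLocalization.mk'_spec (Localization.Away f) a (⟨f ^ i, i, rfl⟩ : Submonoid.powers f)
    have h' := congrArg Ψ h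
    rw [map_mul, hΨ, hΨ, map_pow, laurentHom_of_mem hf (show a ∈ 𝒜 i by simpa using ha)] at h'
    rw [h', hlf, LaurentPolynomial.T_pow, mul_one]
  have h2 : Ψ.comp Φ = RingHom.id _ := by
    refine IsLocalization.ringHom_ext (Submonoid.powers (Polynomial.X : Polynomial (Away 𝒜 f))) ?_
    refine Polynomial.ringHom_ext (fun c => ?_) ?_
    · simp only [RingHom.comp_apply, RingHom.id_apply, LaurentPolynomial.algebraMap_eq_toLaurent,
        Polynomial.toLaurent_C, Φ, LaurentPolynomial.eval₂_C]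
      exact hC c
    · simp only [RingHom.comp_apply, RingHom.id_apply, LaurentPolynomial.algebraMap_eq_toLaurent,
        Polynomial.toLaurent_X, Φ, LaurentPolynomial.eval₂_T, zpow_one]
      exact (hΨ f).trans hlf
  refine ⟨RingEquiv.ofRingHom Φ Ψ h1 h2, fun c => ?_⟩
  exact LaurentPolynomial.eval₂_C _ _ c

end laurent

end Groth.Agent.RelConeLib
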