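import Groth.Agent.RelConeLib.Chart
import Groth.Agent.RelProjLib.QMap

/-!
# Membership in the pointed cones, read on one chart
-/

set_option autoImplicit false
noncomputable section

universe u

open CategoryTheory CategoryTheory.Limits AlgebraicGeometry TopologicalSpace Opposite
open scoped HomogeneousIdeal
open RelProj RelCone

namespace Groth.Agent.RelConeLib

section ring

variable {A σ B τ : Type u} [CommRing A] [SetLike σ A] [AddSubgroupClass σ A] {𝒜 : ℕ → σ} [GradedRing 𝒜]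
  [CommRing B] [SetLike τ B] [AddSubgroupClass τ B] {ℬ : ℕ → τ} [GradedRing ℬ]

lemma irrelevant_le_ideal_iff (I : Ideal A) :
    (𝒜₊).toIdeal ≤ I ↔ ∀ (n : ℕ) (a : A), 0 < n → a ∈ 𝒜 n → a ∈ I := by
  rw [HomogeneousIdeal.toIdeal_irrelevant_le]
  exact ⟨fun h n a hn ha => h n hn ha, fun h n hn a ha => h n a hn ha⟩

lemma mem_domOpen_iff (ψ : 𝒜 →+*ᵍ ℬ) (y : Proj ℬ) :
    y ∈ RelCone.domOpen ψ ↔ ∃ (n : ℕ) (a : A), 0 < n ∧ a ∈ 𝒜 n ∧ ψ a ∉ y.asHomogeneousIdeal := by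
  rw [RelCone.mem_domOpen]
  constructor
  · rintro ⟨f, hf, hfy⟩
    by_contra hne
    push Not at hne
    exact hfy ((irrelevant_le_ideal_iff (y.asHomogeneousIdeal.toIdeal.comap ψ)).2
      (fun n a hn ha => hne n a hn ha) hf)
  · rintro ⟨n, a, hn, ha, hay⟩
    exact ⟨a, HomogeneousIdeal.mem_irrelevant_of_mem _ hn ha, hay⟩

lemma notMem_domOpen_iff (ψ : 𝒜 →+*ᵍ ℬ) (y : Proj ℬ) :
    y ∉ RelCone.domOpen ψ ↔ ∀ (n : ℕ) (a : A), 0 < n → a ∈ 𝒜 n → ψ a ∈ y.asHomogeneousIdeal := by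
  rw [mem_domOpen_iff]
  push Not
  rfl

lemma notMem_vertexCompl_iff {R : CommRingCat.{u}} (ℛ : ℕ → AddSubgroup R) [GradedRing ℛ] (w : Spec R) :
    w ∉ RelCone.vertexCompl ℛ ↔ ∀ (n : ℕ) (a : R), 0 < n → a ∈ ℛ n → a ∈ w.asIdeal := by
  rw [← irrelevant_le_ideal_iff w.asIdeal]
  exact not_not

lemma mem_vertexCompl_iff {R : CommRingCat.{u}} (ℛ : ℕ → AddSubgroup R) [GradedRing ℛ] (w : Spec R) :
    w ∈ RelCone.vertexCompl ℛ ↔ ∃ (n : ℕ) (a : R), 0 < n ∧ a ∈ ℛ n ∧ a ∉ w.asIdeal := by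
  have h := (notMem_vertexCompl_iff ℛ w).not
  push Not at h
  exact h

/-- The homogeneous core of a prime missing some element of positive degree is a point of `Proj`. -/
def corePoint (P : Ideal A) [hP : P.IsPrime] {n : ℕ} (hn : 0 < n) {a : A} (ha : a ∈ 𝒜 n) (h : a ∉ P) : Proj 𝒜 :=
  (⟨P.homogeneousCore 𝒜, hP.homogeneousCore, fun hle => h
    (Ideal.toIdeal_homogeneousCore_le 𝒜 P (hle (HomogeneousIdeal.mem_irrelevant_of_mem _ hn ha)))⟩ :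
      ProjectiveSpectrum 𝒜)

lemma mem_corePoint_iff (P : Ideal A) [P.IsPrime] {n : ℕ} (hn : 0 < n) {a : A} (ha : a ∈ 𝒜 n) (h : a ∉ P)
    {m : ℕ} {b : A} (hb : b ∈ 𝒜 m) : b ∈ (corePoint P hn ha h).asHomogeneousIdeal ↔ b ∈ P :=
  ⟨fun hm => Ideal.toIdeal_homogeneousCore_le 𝒜 P hm,
    fun hm => Ideal.mem_homogeneousCore_of_homogeneous_of_mem ⟨m, hb⟩ hm⟩

end ring

variable {Y : Scheme.{u}} {𝒮 : QCGrAlg Y}

lemma π_ι_mem (A : RelSpec.QCAlg Y) (U : Y.Opens) (hU : IsAffineOpen U) (w : Spec (A.presheaf.obj (op U))) :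
    A.π (A.ι U hU w) ∈ U := by
  have h : A.ι U hU w ∈ (A.ι U hU).opensRange := ⟨w, rfl⟩
  rwa [← A.π_preimage U hU] at h

/-- The pointed affine cone read on any one chart. -/
lemma mem_pointedCone_iff (U : Y.Opens) (hU : IsAffineOpen U) (w : Spec (𝒮.presheaf.obj (op U))) :
    𝒮.toQCAlg.ι U hU w ∈ pointedCone 𝒮 ↔ w ∈ vertexCompl (𝒮.deg U hU) := by
  refine ⟨fun h => ?_, fun h => Opens.mem_iSup.2 ⟨⟨U, hU⟩, w, h, rfl⟩⟩
  obtain ⟨⟨V, hV⟩, v, hv, hvw⟩ := Opens.mem_iSup.1 h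
  replace hV : IsAffineOpen V := hV
  change v ∈ vertexCompl (𝒮.deg V hV) at hv
  change 𝒮.toQCAlg.ι V hV v = _ at hvw
  obtain ⟨n, a, hn, ha, hav⟩ := (mem_vertexCompl_iff _ v).1 hv
  obtain ⟨_, ⟨W, hW, rfl⟩, hxW, hWle⟩ := Y.isBasis_affineOpens.exists_subset_of_mem_open
    (show 𝒮.toQCAlg.π (𝒮.toQCAlg.ι U hU w) ∈ U ⊓ V from
      ⟨π_ι_mem _ U hU w, hvw ▸ π_ι_mem _ V hV v⟩) (U ⊓ V).2
  replace hW : IsAffineOpen W := hW
  have iU : W ≤ U := fun t ht => (hWle ht).1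
  have iV : W ≤ V := fun t ht => (hWle ht).2
  obtain ⟨x, hx⟩ := RelSpecLib.exists_ι_apply_eq 𝒮.toQCAlg _ W hW hxW
  have hxU : Spec.map (𝒮.presheaf.map (homOfLE iU).op) x = w :=
    (𝒮.toQCAlg.ι U hU).isOpenEmbedding.injective
      (by rw [← Scheme.Hom.comp_apply, RelSpecLib.map_res_ι 𝒮.toQCAlg hU hW iU]; exact hx)
  have hxV : Spec.map (𝒮.presheaf.map (homOfLE iV).op) x = v :=
    (𝒮.toQCAlg.ι V hV).isOpenEmbedding.injective
      (by rw [← Scheme.Hom.comp_apply, RelSpecLib.map_res_ι 𝒮.toQCAlg hV hW iV]; exact hx.trans hvw.symm)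
  by_contra hne
  rw [notMem_vertexCompl_iff] at hne
  subst hxU hxV
  refine hav ?_
  show 𝒮.res hV hW iV a ∈ x.asIdeal
  refine (Ideal.map_le_iff_le_comap (f := (𝒮.res hU hW iU).toRingHom) (K := x.asIdeal)).2 ?_
    (RelProjLib.irrelevant_le_map_affine 𝒮 hU hW iU
      (HomogeneousIdeal.mem_irrelevant_of_mem _ hn ((𝒮.res hV hW iV).2 ha)))
  exact (irrelevant_le_ideal_iff _).2 fun m b hm hb => hne m b hm hb

variable {𝒮h : QCGrAlg Y} {ι : 𝒮.toQCAlg ⟶ 𝒮h.toQCAlg} {z : 𝒮h.presheaf.obj (op ⊤)}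
  (h : IsPolyOver 𝒮 𝒮h ι z) {PC : Scheme.{u}} {pC : PC ⟶ Y}
  {chartC : ∀ (U : Y.Opens) (hU : IsAffineOpen U), (((pC ⁻¹ᵁ U : PC.Opens) : Scheme.{u}) ≅ Proj (𝒮h.deg U hU))}

lemma gradedAt_ofHom_self (U : Y.Opens) (hU : IsAffineOpen U) :
    (QGrHom.ofHom ι h.graded).gradedAt U hU U hU (le_refl U) = gradedHomAt ι h.graded U hU :=
  GradedRingHom.ext fun x => by
    show (𝒮h.presheaf.map (homOfLE (le_refl U)).op).hom ((ι.hom.app (op U)).hom x) = (ι.hom.app (op U)).hom x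
    rw [show (homOfLE (le_refl U)).op = 𝟙 (op U) from rfl, 𝒮h.presheaf.map_id]
    rfl

variable (pC chartC) in
lemma pointedProjCone_eq_domQ :
    pointedProjCone 𝒮 h pC chartC = domQ (QGrHom.ofHom ι h.graded) pC chartC := by
  refine le_antisymm (iSup_le fun U => ?_) (iSup_le ?_)
  · rintro _ ⟨y, hy, rfl⟩
    refine Opens.mem_iSup.2 ⟨⟨(U, U), le_refl U.1⟩, y, ?_, rfl⟩
    rw [gradedAt_ofHom_self h U.1 U.2]
    exact hy
  · rintro ⟨⟨⟨U, hU⟩, ⟨U', hU'⟩⟩, hle⟩ _ ⟨y, hy, rfl⟩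
    replace hU : IsAffineOpen U := hU
    replace hU' : IsAffineOpen U' := hU'
    change y ∈ domOpen ((QGrHom.ofHom ι h.graded).gradedAt U hU U' hU' hle) at hy
    refine Opens.mem_iSup.2 ⟨⟨U', hU'⟩, y, ?_, rfl⟩
    show y ∈ domOpen (gradedHomAt ι h.graded U' hU')
    obtain ⟨n, a, hn, ha, hay⟩ :=
      (mem_domOpen_iff ((QGrHom.ofHom ι h.graded).gradedAt U hU U' hU' hle) y).1 hy
    refine (mem_domOpen_iff (gradedHomAt ι h.graded U' hU') y).2 ⟨n, 𝒮.res hU hU' hle a, hn, (𝒮.res hU hU' hle).2 ha, ?_⟩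
    have e : gradedHomAt ι h.graded U' hU' (𝒮.res hU hU' hle a) =
        (QGrHom.ofHom ι h.graded).gradedAt U hU U' hU' hle a :=
      congr($(ι.hom.naturality (homOfLE hle).op).hom a)
    rw [e]
    exact hay

/-- The pointed projective cone read on any one chart. -/
lemma mem_pointedProjCone_iff (hC : IsRelProj 𝒮h pC chartC) (U : Y.Opens) (hU : IsAffineOpen U)
    (y : Proj (𝒮h.deg U hU)) :
    emb pC chartC U hU y ∈ pointedProjCone 𝒮 h pC chartC ↔ y ∈ domOpen (gradedHomAt ι h.graded U hU) := by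
  obtain ⟨P, p, chart, hP⟩ := RelProjLib.exists_isRelProj 𝒮
  rw [pointedProjCone_eq_domQ h pC chartC,
    RelProjLib.mem_domQ_iff (QGrHom.ofHom ι h.graded) p pC hP hC hU hU (le_refl U), gradedAt_ofHom_self h U hU]

end Groth.Agent.RelConeLib
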