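import Groth.Agent.RelConeLib.Pointed
import Groth.Agent.RelConeLib.Square
import Groth.Agent.RelConeLib.Fibre

/-!
# The retractions of the pointed cones onto `Proj(𝒮)` over a general base
-/

set_option autoImplicit false
noncomputable section

universe u

open CategoryTheory CategoryTheory.Limits AlgebraicGeometry TopologicalSpace Opposite HomogeneousLocalization
open scoped HomogeneousIdeal
open RelProj RelCone

namespace Groth.Agent.RelConeLib

lemma lift_apply {X Y Z : Scheme.{u}} (f : X ⟶ Z) [IsOpenImmersion f] (g : Y ⟶ Z) (H : Set.range g ⊆ Set.range f)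
    (y : Y) : f (IsOpenImmersion.lift f g H y) = g y := by
  rw [← Scheme.Hom.comp_apply, IsOpenImmersion.lift_fac]

/-- Two points of `Proj` with the same elements of positive degree are equal. -/
lemma proj_ext_pos {A σ : Type u} [CommRing A] [SetLike σ A] [AddSubgroupClass σ A] {𝒜 : ℕ → σ} [GradedRing 𝒜]
    {q q' : Proj 𝒜} (h : ∀ (n : ℕ) (a : A), 0 < n → a ∈ 𝒜 n →
      (a ∈ q.asHomogeneousIdeal ↔ a ∈ q'.asHomogeneousIdeal)) : q = q' := by
  classical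
  obtain ⟨k, hk, t, ht, htq⟩ : ∃ k, 0 < k ∧ ∃ t ∈ 𝒜 k, t ∉ q.asHomogeneousIdeal := by
    by_contra hne
    push Not at hne
    exact q.not_irrelevant_le ((HomogeneousIdeal.irrelevant_le _).2 fun k hk t ht => hne k hk t ht)
  have htq' : t ∉ q'.asHomogeneousIdeal := fun hm => htq ((h k t hk ht).2 hm)
  have key : ∀ (n : ℕ) (a : A), a ∈ 𝒜 n → (a ∈ q.asHomogeneousIdeal ↔ a ∈ q'.asHomogeneousIdeal) := by
    intro n a ha
    have hat := h (n + k) (a * t) (Nat.add_pos_right n hk) (SetLike.mul_mem_graded ha ht)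
    exact ⟨fun hm => (q'.isPrime.mem_or_mem (hat.1 (Ideal.mul_mem_right _ _ hm))).resolve_right htq',
      fun hm => (q.isPrime.mem_or_mem (hat.2 (Ideal.mul_mem_right _ _ hm))).resolve_right htq⟩
  refine ProjectiveSpectrum.ext (HomogeneousIdeal.ext (Ideal.ext fun a => ⟨fun ha => ?_, fun ha => ?_⟩))
  · rw [← DirectSum.sum_support_decompose 𝒜 a]
    exact sum_mem fun i _ => (key i _ (SetLike.coe_mem _)).1 (q.asHomogeneousIdeal.isHomogeneous i ha)
  · rw [← DirectSum.sum_support_decompose 𝒜 a]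
    exact sum_mem fun i _ => (key i _ (SetLike.coe_mem _)).2 (q'.asHomogeneousIdeal.isHomogeneous i ha)

variable {Y PC P : Scheme.{u}} {𝒮 𝒮h : QCGrAlg Y} (ι : 𝒮.toQCAlg ⟶ 𝒮h.toQCAlg) (hι : IsGradedHom ι)
  (pC : PC ⟶ Y)
  (chartC : ∀ (U : Y.Opens) (hU : IsAffineOpen U), (((pC ⁻¹ᵁ U : PC.Opens) : Scheme.{u}) ≅ Proj (𝒮h.deg U hU)))
  (p : P ⟶ Y)
  (chart : ∀ (U : Y.Opens) (hU : IsAffineOpen U), (((p ⁻¹ᵁ U : P.Opens) : Scheme.{u}) ≅ Proj (𝒮.deg U hU)))

/-- The equations of the canonical retraction on `W`. -/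
def IsRetrOn (W : PC.Opens) (r : (W : Scheme.{u}) ⟶ P) : Prop :=
  ∀ (U : Y.Opens) (hU : IsAffineOpen U) (d : ℕ) (hd : 0 < d) (f : 𝒮.presheaf.obj (op U)) (hf : f ∈ 𝒮.deg U hU d)
    (g : Spec (CommRingCat.of (Away (𝒮h.deg U hU) ((gradedHomAt ι hι U hU) f))) ⟶ (W : Scheme.{u})),
    g ≫ W.ι = Proj.awayι (𝒮h.deg U hU) ((gradedHomAt ι hι U hU) f) ((gradedHomAt ι hι U hU).2 hf) hd ≫
        emb pC chartC U hU →
      g ≫ r = Spec.map (CommRingCat.ofHom (Away.map (gradedHomAt ι hι U hU) f)) ≫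
        Proj.awayι (𝒮.deg U hU) f hf hd ≫ emb p chart U hU

lemma gradedAt_ofHom_eq (U : Y.Opens) (hU : IsAffineOpen U) :
    (QGrHom.ofHom ι hι).gradedAt U hU U hU (le_refl U) = gradedHomAt ι hι U hU :=
  GradedRingHom.ext fun x => by
    show (𝒮h.presheaf.map (homOfLE (le_refl U)).op).hom ((ι.hom.app (op U)).hom x) = (ι.hom.app (op U)).hom x
    rw [show (homOfLE (le_refl U)).op = 𝟙 (op U) from rfl, 𝒮h.presheaf.map_id]
    rfl

variable {ι hι pC chartC p chart}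

lemma range_chart_subset (U : Y.Opens) (hU : IsAffineOpen U) {d : ℕ} (hd : 0 < d) {f : 𝒮.presheaf.obj (op U)}
    (hf : f ∈ 𝒮.deg U hU d) :
    Set.range (Proj.awayι (𝒮h.deg U hU) ((gradedHomAt ι hι U hU) f) ((gradedHomAt ι hι U hU).2 hf) hd ≫
        emb pC chartC U hU) ⊆ Set.range (domQ (QGrHom.ofHom ι hι) pC chartC).ι := by
  rw [Scheme.Opens.range_ι]
  rintro _ ⟨w, rfl⟩
  refine Opens.mem_iSup.2 ⟨⟨(⟨U, hU⟩, ⟨U, hU⟩), le_refl U⟩, _, ?_, rfl⟩
  show _ ∈ RelCone.domOpen ((QGrHom.ofHom ι hι).gradedAt U hU U hU (le_refl U))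
  rw [gradedAt_ofHom_eq ι hι U hU, mem_domOpen_iff]
  exact ⟨d, f, hd, hf, (Proj.opensRange_awayι (𝒮h.deg U hU) _ ((gradedHomAt ι hι U hU).2 hf) hd).le ⟨w, rfl⟩⟩

/-- The chart `Spec Sh(U)_(ι f) ⟶ G(ι)`. -/
abbrev retrChart (U : Y.Opens) (hU : IsAffineOpen U) {d : ℕ} (hd : 0 < d) {f : 𝒮.presheaf.obj (op U)}
    (hf : f ∈ 𝒮.deg U hU d) :
    Spec (CommRingCat.of (Away (𝒮h.deg U hU) ((gradedHomAt ι hι U hU) f))) ⟶
      (domQ (QGrHom.ofHom ι hι) pC chartC : PC.Opens) :=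
  IsOpenImmersion.lift (domQ (QGrHom.ofHom ι hι) pC chartC).ι
    (Proj.awayι (𝒮h.deg U hU) ((gradedHomAt ι hι U hU) f) ((gradedHomAt ι hι U hU).2 hf) hd ≫ emb pC chartC U hU)
    (range_chart_subset U hU hd hf)

lemma isRetrOn_of_isProjQMapOn {r : ((domQ (QGrHom.ofHom ι hι) pC chartC : PC.Opens) : Scheme.{u}) ⟶ P}
    (hr : IsProjQMapOn (QGrHom.ofHom ι hι) p chart pC chartC (domQ (QGrHom.ofHom ι hι) pC chartC) r) :
    IsRetrOn ι hι pC chartC p chart (domQ (QGrHom.ofHom ι hι) pC chartC) r := by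
  intro U hU d hd f hf g hg
  have key : ∀ φ : 𝒮.deg U hU →+*ᵍ 𝒮h.deg U hU, φ = (QGrHom.ofHom ι hι).gradedAt U hU U hU (le_refl U) →
      ∀ (g : Spec (CommRingCat.of (Away (𝒮h.deg U hU) (φ f))) ⟶ (domQ (QGrHom.ofHom ι hι) pC chartC : PC.Opens)),
        g ≫ (domQ (QGrHom.ofHom ι hι) pC chartC).ι =
            Proj.awayι (𝒮h.deg U hU) (φ f) (φ.2 hf) hd ≫ emb pC chartC U hU →
          g ≫ r = Spec.map (CommRingCat.ofHom (Away.map φ f)) ≫
            Proj.awayι (𝒮.deg U hU) f hf hd ≫ emb p chart U hU := ?_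
  exact key _ (gradedAt_ofHom_eq ι hι U hU).symm g hg
  rintro φ rfl g hg
  have hW := range_awayEmb_subset_domQ (QGrHom.ofHom ι hι) pC chartC U hU U hU (le_refl U) hd f hf
  rw [show g = IsOpenImmersion.lift _ (awayEmb (QGrHom.ofHom ι hι) pC chartC U hU U hU (le_refl U) hd f hf) hW by
    rw [← cancel_mono (domQ (QGrHom.ofHom ι hι) pC chartC).ι, IsOpenImmersion.lift_fac]; exact hg]
  exact hr U hU U hU (le_refl U) d hd f hf hW

lemma exists_retrChart_apply_eq (hP : IsRelProj 𝒮 p chart) (hC : IsRelProj 𝒮h pC chartC)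
    (x : ((domQ (QGrHom.ofHom ι hι) pC chartC : PC.Opens) : Scheme.{u}))
    (U : Y.Opens) (hU : IsAffineOpen U) (hx : pC x.1 ∈ U) :
    ∃ (d : ℕ) (hd : 0 < d) (f : 𝒮.presheaf.obj (op U)) (hf : f ∈ 𝒮.deg U hU d)
      (w : Spec (CommRingCat.of (Away (𝒮h.deg U hU) ((gradedHomAt ι hι U hU) f)))),
      retrChart U hU hd hf w = x := by
  obtain ⟨y, hy⟩ := RelProjLib.exists_emb_eq 𝒮h hU hx (p := pC) (chart := chartC)
  have hyd : y ∈ RelCone.domOpen ((QGrHom.ofHom ι hι).gradedAt U hU U hU (le_refl U)) :=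
    (RelProjLib.mem_domQ_iff (QGrHom.ofHom ι hι) p pC hP hC hU hU (le_refl U) y).1 (by rw [hy]; exact x.2)
  rw [gradedAt_ofHom_eq ι hι U hU, mem_domOpen_iff] at hyd
  obtain ⟨d, f, hd, hf, hfy⟩ := hyd
  obtain ⟨w, hw⟩ := (Proj.opensRange_awayι (𝒮h.deg U hU) _ ((gradedHomAt ι hι U hU).2 hf) hd).ge hfy
  refine ⟨d, hd, f, hf, w, (domQ (QGrHom.ofHom ι hι) pC chartC).ι.isOpenEmbedding.injective ?_⟩
  exact (lift_apply _ _ (range_chart_subset U hU hd hf) w).trans ((congrArg (emb pC chartC U hU) hw).trans hy)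

lemma retrOn_unique (hP : IsRelProj 𝒮 p chart) (hC : IsRelProj 𝒮h pC chartC)
    {r r' : ((domQ (QGrHom.ofHom ι hι) pC chartC : PC.Opens) : Scheme.{u}) ⟶ P}
    (hr : IsRetrOn ι hι pC chartC p chart _ r) (hr' : IsRetrOn ι hι pC chartC p chart _ r') : r = r' := by
  refine Scheme.hom_ext_of_forall _ _ fun x => ?_
  obtain ⟨U, hU, hxU, -⟩ := exists_affine_nhd (pC x.1) ⊤ trivial
  obtain ⟨d, hd, f, hf, w, hw⟩ := exists_retrChart_apply_eq hP hC x U hU hxU
  let l := retrChart (ι := ι) (hι := hι) (pC := pC) (chartC := chartC) U hU hd hf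
  have hl : l ≫ (domQ (QGrHom.ofHom ι hι) pC chartC).ι = _ := IsOpenImmersion.lift_fac _ _ _
  have : IsOpenImmersion (l ≫ (domQ (QGrHom.ofHom ι hι) pC chartC).ι) := by rw [hl]; infer_instance
  have : IsOpenImmersion l := IsOpenImmersion.of_comp l (domQ (QGrHom.ofHom ι hι) pC chartC).ι
  refine ⟨l.opensRange, ⟨w, hw⟩, ?_⟩
  rw [← cancel_epi l.isoOpensRange.hom, Scheme.Hom.isoOpensRange_hom_ι_assoc,
    Scheme.Hom.isoOpensRange_hom_ι_assoc, hr U hU d hd f hf l hl, hr' U hU d hd f hf l hl]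

lemma existsUnique_isRetrOn (hP : IsRelProj 𝒮 p chart) (hC : IsRelProj 𝒮h pC chartC) :
    ∃! r : ((domQ (QGrHom.ofHom ι hι) pC chartC : PC.Opens) : Scheme.{u}) ⟶ P,
      IsRetrOn ι hι pC chartC p chart _ r := by
  obtain ⟨r, hr, -⟩ := RelProjLib.existsUnique_isProjQMapOn (QGrHom.ofHom ι hι) p pC hP hC
  exact ⟨r, isRetrOn_of_isProjQMapOn hr, fun r' hr' => retrOn_unique hP hC hr' (isRetrOn_of_isProjQMapOn hr)⟩

lemma isProjQMapOn_of_isRetrOn (hP : IsRelProj 𝒮 p chart) (hC : IsRelProj 𝒮h pC chartC)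
    {r : ((domQ (QGrHom.ofHom ι hι) pC chartC : PC.Opens) : Scheme.{u}) ⟶ P}
    (hr : IsRetrOn ι hι pC chartC p chart _ r) :
    IsProjQMapOn (QGrHom.ofHom ι hι) p chart pC chartC (domQ (QGrHom.ofHom ι hι) pC chartC) r := by
  obtain ⟨r₀, hr₀, -⟩ := RelProjLib.existsUnique_isProjQMapOn (QGrHom.ofHom ι hι) p pC hP hC
  rw [retrOn_unique hP hC hr (isRetrOn_of_isProjQMapOn hr₀)]
  exact hr₀

section properties

variable (hP : IsRelProj 𝒮 p chart) (hC : IsRelProj 𝒮h pC chartC)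
  {r : ((domQ (QGrHom.ofHom ι hι) pC chartC : PC.Opens) : Scheme.{u}) ⟶ P}
  (hr : IsRetrOn ι hι pC chartC p chart _ r)

include hP hC hr in
lemma retr_comp : r ≫ p = (domQ (QGrHom.ofHom ι hι) pC chartC).ι ≫ pC := by
  rw [RelProjLib.comp_of_isProjQMapOn _ p pC hP hC (isProjQMapOn_of_isRetrOn hP hC hr), Category.comp_id]

include hP hC hr in
lemma retr_preimage (U : Y.Opens) (hU : IsAffineOpen U) {d : ℕ} (hd : 0 < d) {f : 𝒮.presheaf.obj (op U)}
    (hf : f ∈ 𝒮.deg U hU d) :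
    r ⁻¹ᵁ (emb p chart U hU ''ᵁ Proj.basicOpen (𝒮.deg U hU) f) =
      ((retrChart (ι := ι) (hι := hι) (pC := pC) (chartC := chartC) U hU hd hf) ''ᵁ ⊤) := by
  refine Opens.ext (Set.ext fun x => ?_)
  have hr0 := isProjQMapOn_of_isRetrOn hP hC hr
  constructor
  · intro hx
    have hxU : pC x.1 ∈ U := by
      obtain ⟨y₀, -, e⟩ := hx
      have h : (r ≫ p) x ∈ U := by
        rw [Scheme.Hom.comp_apply, ← e]
        exact RelProjLib.emb_mem_base 𝒮 U hU y₀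
      rw [retr_comp hP hC hr] at h
      exact h
    obtain ⟨y, hy⟩ := RelProjLib.exists_emb_eq 𝒮h hU hxU (p := pC) (chart := chartC)
    have hyd : emb pC chartC U hU y ∈ domQ (QGrHom.ofHom ι hι) pC chartC := by rw [hy]; exact x.2
    have hx' : x = ⟨_, hyd⟩ := Subtype.ext hy.symm
    have h1 := (RelProjLib.mem_image_basicOpen_iff (QGrHom.ofHom ι hι) p pC hP hC hr0 hU hU (le_refl U) hd hf y
      hyd).1 (hx' ▸ hx)
    rw [gradedAt_ofHom_eq ι hι U hU] at h1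
    obtain ⟨w, hw⟩ := (Proj.opensRange_awayι (𝒮h.deg U hU) _ ((gradedHomAt ι hι U hU).2 hf) hd).ge h1
    refine ⟨w, trivial, (domQ (QGrHom.ofHom ι hι) pC chartC).ι.isOpenEmbedding.injective ?_⟩
    exact (lift_apply _ _ (range_chart_subset U hU hd hf) w).trans ((congrArg (emb pC chartC U hU) hw).trans hy)
  · rintro ⟨w, -, rfl⟩
    show r (retrChart U hU hd hf w) ∈ emb p chart U hU ''ᵁ Proj.basicOpen (𝒮.deg U hU) f
    rw [← Scheme.Hom.comp_apply, hr U hU d hd f hf _ (IsOpenImmersion.lift_fac _ _ _), Scheme.Hom.comp_apply,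
      Scheme.Hom.comp_apply]
    exact ⟨_, (Proj.opensRange_awayι (𝒮.deg U hU) f hf hd).le ⟨_, rfl⟩, rfl⟩

include hP hC hr in
lemma retr_isAffineHom : IsAffineHom r := by
  refine isAffineHom_of_forall_exists_isAffineOpen (f := r) fun x => ?_
  obtain ⟨U, hU, y, rfl⟩ := RelProjLib.exists_emb_apply_eq (p := p) (chart := chart) x
  obtain ⟨d, hd, f, hf, hfy⟩ : ∃ d, 0 < d ∧ ∃ f ∈ 𝒮.deg U hU d, f ∉ y.asHomogeneousIdeal := by
    by_contra hne
    push Not at hne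
    exact y.not_irrelevant_le ((HomogeneousIdeal.irrelevant_le _).2 fun k hk t ht => hne k hk t ht)
  have hl : IsOpenImmersion (retrChart (ι := ι) (hι := hι) (pC := pC) (chartC := chartC) U hU hd hf) := by
    have : IsOpenImmersion (retrChart (ι := ι) (hι := hι) (pC := pC) (chartC := chartC) U hU hd hf ≫
        (domQ (QGrHom.ofHom ι hι) pC chartC).ι) := by rw [IsOpenImmersion.lift_fac]; infer_instance
    exact IsOpenImmersion.of_comp _ (domQ (QGrHom.ofHom ι hι) pC chartC).ι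
  refine ⟨emb p chart U hU ''ᵁ Proj.basicOpen (𝒮.deg U hU) f, ⟨y, hfy, rfl⟩,
    (Proj.isAffineOpen_basicOpen (𝒮.deg U hU) f hf hd).image_of_isOpenImmersion _, ?_⟩
  rw [retr_preimage hP hC hr U hU hd hf]
  exact (isAffineOpen_top _).image_of_isOpenImmersion _

end properties

section cone

variable {z : 𝒮h.presheaf.obj (op ⊤)} {h : IsPolyOver 𝒮 𝒮h ι z} {i : 𝒮.toQCAlg.spec ⟶ PC}
  (hC : IsRelProj 𝒮h pC chartC) (hP : IsRelProj 𝒮 p chart) (hi : IsConeImm 𝒮 h pC chartC i)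

lemma pointedCone_chart_subset (U : Y.Opens) (hU : IsAffineOpen U) {d : ℕ} (hd : 0 < d)
    {f : 𝒮.presheaf.obj (op U)} (hf : f ∈ 𝒮.deg U hU d) :
    Set.range (Spec.map (CommRingCat.ofHom (algebraMap (𝒮.presheaf.obj (op U)) (Localization.Away f))) ≫
      𝒮.toQCAlg.ι U hU) ⊆ Set.range (pointedCone 𝒮).ι := by
  rw [Scheme.Opens.range_ι]
  rintro _ ⟨w, rfl⟩
  rw [Scheme.Hom.comp_apply, SetLike.mem_coe, mem_pointedCone_iff, mem_vertexCompl_iff]
  refine ⟨d, f, hd, hf, ?_⟩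
  exact fun hm => w.isPrime.ne_top
    (Ideal.eq_top_of_isUnit_mem _ hm (IsLocalization.Away.algebraMap_isUnit (S := Localization.Away f) f))

variable (𝒮) in
/-- The chart `Spec 𝒮(U)_f ⟶ E`. -/
abbrev coneLift (U : Y.Opens) (hU : IsAffineOpen U) {d : ℕ} (hd : 0 < d)
    {f : 𝒮.presheaf.obj (op U)} (hf : f ∈ 𝒮.deg U hU d) :
    Spec (CommRingCat.of (Localization.Away f)) ⟶ (pointedCone 𝒮 : 𝒮.toQCAlg.spec.Opens) :=
  IsOpenImmersion.lift (pointedCone 𝒮).ι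
    (Spec.map (CommRingCat.ofHom (algebraMap (𝒮.presheaf.obj (op U)) (Localization.Away f))) ≫ 𝒮.toQCAlg.ι U hU)
    (pointedCone_chart_subset U hU hd hf)

include hC hi in
lemma pointedCone_le : pointedCone 𝒮 ≤ i ⁻¹ᵁ domQ (QGrHom.ofHom ι h.graded) pC chartC := by
  intro x hx
  obtain ⟨U, hU, hxU, -⟩ := exists_affine_nhd (𝒮.toQCAlg.π x) ⊤ trivial
  obtain ⟨w, rfl⟩ := RelSpecLib.exists_ι_apply_eq 𝒮.toQCAlg x U hU hxU
  obtain ⟨n, a, hn, ha, haw⟩ := (mem_vertexCompl_iff _ w).1 ((mem_pointedCone_iff U hU w).1 hx)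
  show i (𝒮.toQCAlg.ι U hU w) ∈ domQ (QGrHom.ofHom ι h.graded) pC chartC
  rw [← pointedProjCone_eq_domQ h pC chartC, ← Scheme.Hom.comp_apply, isImm_of_isConeImm pC chartC hi U hU,
    Scheme.Hom.comp_apply, mem_pointedProjCone_iff h hC, mem_domOpen_iff]
  refine ⟨n, a, hn, ha, fun hm => haw ?_⟩
  have := (mem_coneChart_iff _ _ _ hn ((gradedHomAt ι h.graded U hU).2 ha) w).1 hm
  exact (congrArg (· ∈ w.asIdeal) (evalAtOne_map (h.bij U hU) a)).mp this

variable {r : ((domQ (QGrHom.ofHom ι h.graded) pC chartC : PC.Opens) : Scheme.{u}) ⟶ P}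
  (hr : IsRetrOn ι h.graded pC chartC p chart _ r)
  (i' : ((pointedCone 𝒮 : 𝒮.toQCAlg.spec.Opens) : Scheme.{u}) ⟶ (domQ (QGrHom.ofHom ι h.graded) pC chartC : PC.Opens))
  (hi' : i' ≫ (domQ (QGrHom.ofHom ι h.graded) pC chartC).ι = (pointedCone 𝒮).ι ≫ i)

include hi hr hi' in
lemma coneLift_comp (U : Y.Opens) (hU : IsAffineOpen U) {d : ℕ} (hd : 0 < d)
    {f : 𝒮.presheaf.obj (op U)} (hf : f ∈ 𝒮.deg U hU d) :
    coneLift 𝒮 U hU hd hf ≫ i' ≫ r =
      Spec.map (CommRingCat.ofHom (algebraMap (Away (𝒮.deg U hU) f) (Localization.Away f))) ≫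
        Proj.awayι (𝒮.deg U hU) f hf hd ≫ emb p chart U hU := by
  let D := polyData_of_isPolyOver h
  let ψ := gradedHomAt ι h.graded U hU
  let L := algebraMap (𝒮.presheaf.obj (op U)) (Localization.Away f)
  let e : 𝒮h.presheaf.obj (op U) →+* Localization.Away f := L.comp (D.E U hU)
  have hu1 : IsUnit (D.E U hU (restrictTop 𝒮h z U)) := by rw [D.E_z U hU]; exact isUnit_one
  have hez : IsUnit (e (restrictTop 𝒮h z U)) := hu1.map L
  have heψ : e (ψ f) = L f := congrArg L (evalAtOne_map (h.bij U hU) f)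
  have hef : IsUnit (e (ψ f)) := heψ ▸ IsLocalization.Away.algebraMap_isUnit (S := Localization.Away f) f
  let g := Spec.map (CommRingCat.ofHom (liftAway (𝒮h.deg U hU) e hef)) ≫
    retrChart (ι := ι) (hι := h.graded) (pC := pC) (chartC := chartC) U hU hd hf
  have e1 : coneLift 𝒮 U hU hd hf ≫ i' = g := by
    rw [← cancel_mono (domQ (QGrHom.ofHom ι h.graded) pC chartC).ι, Category.assoc, hi', ← Category.assoc,
      IsOpenImmersion.lift_fac, Category.assoc, isImm_of_isConeImm pC chartC hi U hU]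
    simp only [g, Category.assoc, IsOpenImmersion.lift_fac, PolyData.c, coneChart]
    rw [← Category.assoc (Spec.map (CommRingCat.ofHom L)), ← Spec.map_comp, ← CommRingCat.ofHom_comp,
      show L.comp (awayTo (ℬ := 𝒮h.deg U hU) (D.E U hU) (D.E_z U hU)) = liftAway (𝒮h.deg U hU) e hez from
        comp_liftAway (D.E U hU) hu1 L]
    exact (Category.assoc _ _ _).symm.trans ((congrArg (· ≫ emb pC chartC U hU)
      (specMap_liftAway_awayι e hez hef (h.deg_z U hU) one_pos (ψ.2 hf) hd)).trans (Category.assoc _ _ _))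
  rw [reassoc_of% e1]
  show (Spec.map _ ≫ retrChart U hU hd hf) ≫ r = _
  rw [Category.assoc, hr U hU d hd f hf _ (IsOpenImmersion.lift_fac _ _ _), ← Category.assoc, ← Spec.map_comp,
    ← CommRingCat.ofHom_comp]
  congr 3
  refine RingHom.ext fun q => ?_
  obtain ⟨n, a, ha, rfl⟩ := Away.mk_surjective (𝒮.deg U hU) hf q
  rw [RingHom.comp_apply, Away.map_mk]
  refine (hef.pow n).mul_right_cancel ((liftAway_mk e hef (ψ.2 hf) n (ψ a) _).trans ?_)
  have ea : e (ψ a) = L a := congrArg L (evalAtOne_map (h.bij U hU) a)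
  rw [ea, heψ, HomogeneousLocalization.algebraMap_apply, Away.val_mk, Localization.mk_eq_mk', ← map_pow]
  exact (IsLocalization.mk'_spec (Localization.Away f) a (⟨f ^ n, n, rfl⟩ : Submonoid.powers f)).symm

include hC hP hi hr hi' in
lemma cone_preimage (U : Y.Opens) (hU : IsAffineOpen U) {d : ℕ} (hd : 0 < d)
    {f : 𝒮.presheaf.obj (op U)} (hf : f ∈ 𝒮.deg U hU d) :
    (i' ≫ r) ⁻¹ᵁ (emb p chart U hU ''ᵁ Proj.basicOpen (𝒮.deg U hU) f) =
      (pointedCone 𝒮).ι ⁻¹ᵁ (𝒮.toQCAlg.ι U hU ''ᵁ PrimeSpectrum.basicOpen f) := by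
  refine Opens.ext (Set.ext fun x => ?_)
  constructor
  · intro hx
    change i' x ∈ r ⁻¹ᵁ (emb p chart U hU ''ᵁ Proj.basicOpen (𝒮.deg U hU) f) at hx
    rw [retr_preimage hP hC hr U hU hd hf] at hx
    obtain ⟨v, -, hv⟩ := hx
    have hx1 : emb pC chartC U hU (Proj.awayι (𝒮h.deg U hU) (gradedHomAt ι h.graded U hU f)
        ((gradedHomAt ι h.graded U hU).2 hf) hd v) = i x.1 := by
      exact ((lift_apply _ _ (range_chart_subset U hU hd hf) v).symm.trans (congrArg ((domQ (QGrHom.ofHom ι h.graded) pC chartC).ι) hv)).trans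
        (congr($(hi') x))
    have hxU : x.1 ∈ i ⁻¹ᵁ (pC ⁻¹ᵁ U) := by
      show pC (i x.1) ∈ U
      rw [← hx1]
      exact RelProjLib.emb_mem_base 𝒮h U hU _
    rw [preimage_base hC (isImm_of_isConeImm pC chartC hi) U hU] at hxU
    obtain ⟨w, hw⟩ := hxU
    refine ⟨w, fun hm => ?_, hw⟩
    have := (emb pC chartC U hU).isOpenEmbedding.injective
      (hx1.trans ((congrArg i hw.symm).trans (congr($(isImm_of_isConeImm pC chartC hi U hU) w))))
    have hmem := (Proj.opensRange_awayι (𝒮h.deg U hU) _ ((gradedHomAt ι h.graded U hU).2 hf) hd).le ⟨v, rfl⟩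
    refine (congrArg (fun y => y ∈ Proj.basicOpen (𝒮h.deg U hU) (gradedHomAt ι h.graded U hU f)) this).mp hmem ((mem_coneChart_iff _ _ _ hd ((gradedHomAt ι h.graded U hU).2 hf) w).2 ?_)
    exact (congrArg (· ∈ w.asIdeal) (evalAtOne_map (h.bij U hU) f)).mpr hm
  · rintro ⟨w, hw, hwx⟩
    obtain ⟨v, rfl⟩ := (PrimeSpectrum.localization_away_comap_range (Localization.Away f) f).ge hw
    have e : x = coneLift 𝒮 U hU hd hf v := by
      refine (pointedCone 𝒮).ι.isOpenEmbedding.injective ?_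
      exact hwx.symm.trans (lift_apply _ _ (pointedCone_chart_subset U hU hd hf) v).symm
    show (i' ≫ r) x ∈ emb p chart U hU ''ᵁ Proj.basicOpen (𝒮.deg U hU) f
    rw [e]
    show (coneLift 𝒮 U hU hd hf ≫ i' ≫ r) v ∈ emb p chart U hU ''ᵁ Proj.basicOpen (𝒮.deg U hU) f
    rw [coneLift_comp hi hr i' hi' U hU hd hf]
    exact ⟨_, (Proj.opensRange_awayι (𝒮.deg U hU) f hf hd).le ⟨_, rfl⟩, rfl⟩

include hC hP hi hr hi' in
lemma cone_isAffineHom : IsAffineHom (i' ≫ r) := by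
  refine isAffineHom_of_forall_exists_isAffineOpen (f := i' ≫ r) fun x => ?_
  obtain ⟨U, hU, y, rfl⟩ := RelProjLib.exists_emb_apply_eq (p := p) (chart := chart) x
  obtain ⟨d, hd, f, hf, hfy⟩ : ∃ d, 0 < d ∧ ∃ f ∈ 𝒮.deg U hU d, f ∉ y.asHomogeneousIdeal := by
    by_contra hne
    push Not at hne
    exact y.not_irrelevant_le ((HomogeneousIdeal.irrelevant_le _).2 fun k hk t ht => hne k hk t ht)
  refine ⟨emb p chart U hU ''ᵁ Proj.basicOpen (𝒮.deg U hU) f, ⟨y, hfy, rfl⟩,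
    (Proj.isAffineOpen_basicOpen (𝒮.deg U hU) f hf hd).image_of_isOpenImmersion _, ?_⟩
  rw [cone_preimage hC hP hi hr i' hi' U hU hd hf]
  refine IsAffineOpen.preimage_of_isOpenImmersion
    ((IsAffineOpen.Spec_basicOpen f).image_of_isOpenImmersion _) _ ?_
  rw [Scheme.Opens.opensRange_ι]
  rintro _ ⟨w, hw, rfl⟩
  exact (mem_pointedCone_iff U hU w).2 ((mem_vertexCompl_iff _ w).2 ⟨d, f, hd, hf, hw⟩)

include hC hP hi hr hi' in
lemma cone_surjective : Function.Surjective (i' ≫ r) := by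
  intro x
  obtain ⟨U, hU, q, rfl⟩ := RelProjLib.exists_emb_apply_eq (p := p) (chart := chart) x
  let w : Spec (𝒮.presheaf.obj (op U)) := (⟨q.asHomogeneousIdeal.toIdeal, q.isPrime⟩ : PrimeSpectrum _)
  have hw : 𝒮.toQCAlg.ι U hU w ∈ pointedCone 𝒮 := by
    rw [mem_pointedCone_iff]
    by_contra hne
    exact q.not_irrelevant_le ((irrelevant_le_ideal_iff _).2 ((notMem_vertexCompl_iff _ w).1 hne))
  let x₀ : ((pointedCone 𝒮 : 𝒮.toQCAlg.spec.Opens) : Scheme.{u}) := ⟨_, hw⟩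
  refine ⟨x₀, ?_⟩
  have hover : p ((i' ≫ r) x₀) ∈ U := by
    have h1 : (i' ≫ r) ≫ p = (pointedCone 𝒮).ι ≫ 𝒮.toQCAlg.π := by
      rw [Category.assoc, retr_comp hP hC hr, ← Category.assoc, hi', Category.assoc,
        comp_π hC (isImm_of_isConeImm pC chartC hi)]
    show ((i' ≫ r) ≫ p) x₀ ∈ U
    rw [h1]
    exact π_ι_mem _ U hU w
  obtain ⟨q', hq'⟩ := RelProjLib.exists_emb_eq 𝒮 hU hover (p := p) (chart := chart)
  rw [← hq']
  congr 1
  refine proj_ext_pos fun n a hn ha => ?_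
  have hmem := SetLike.ext_iff.1 (cone_preimage hC hP hi hr i' hi' U hU hn ha) x₀
  refine not_iff_not.1 ?_
  constructor
  · intro hq
    have h2 : x₀ ∈ (i' ≫ r) ⁻¹ᵁ (emb p chart U hU ''ᵁ Proj.basicOpen (𝒮.deg U hU) a) := ⟨q', hq, hq'⟩
    obtain ⟨w', hw', e⟩ := hmem.1 h2
    exact (congrArg (fun t : PrimeSpectrum (𝒮.presheaf.obj (op U)) => a ∉ t.asIdeal)
      ((𝒮.toQCAlg.ι U hU).isOpenEmbedding.injective e)).mp hw'
  · intro hq
    obtain ⟨q'', hq'', e⟩ := hmem.2 ⟨w, hq, rfl⟩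
    exact (emb p chart U hU).isOpenEmbedding.injective (e.trans hq'.symm) ▸ hq''

end cone

end Groth.Agent.RelConeLib

namespace Groth.Agent.RelConeLib

variable {Y PC P : Scheme.{u}} {𝒮 𝒮h : QCGrAlg Y} {ι : 𝒮.toQCAlg ⟶ 𝒮h.toQCAlg} {hι : IsGradedHom ι}
  {pC : PC ⟶ Y}
  {chartC : ∀ (U : Y.Opens) (hU : IsAffineOpen U), (((pC ⁻¹ᵁ U : PC.Opens) : Scheme.{u}) ≅ Proj (𝒮h.deg U hU))}
  {p : P ⟶ Y}
  {chart : ∀ (U : Y.Opens) (hU : IsAffineOpen U), (((p ⁻¹ᵁ U : P.Opens) : Scheme.{u}) ≅ Proj (𝒮.deg U hU))}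

lemma isOpenImmersion_lift {X V Z : Scheme.{u}} (f : V ⟶ Z) [IsOpenImmersion f] (g : X ⟶ Z) [IsOpenImmersion g]
    (H : Set.range g ⊆ Set.range f) : IsOpenImmersion (IsOpenImmersion.lift f g H) := by
  have : IsOpenImmersion (IsOpenImmersion.lift f g H ≫ f) := by rw [IsOpenImmersion.lift_fac]; infer_instance
  exact IsOpenImmersion.of_comp _ f

instance (U : Y.Opens) (hU : IsAffineOpen U) {d : ℕ} (hd : 0 < d) {f : 𝒮.presheaf.obj (op U)}
    (hf : f ∈ 𝒮.deg U hU d) :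
    IsOpenImmersion (retrChart (ι := ι) (hι := hι) (pC := pC) (chartC := chartC) U hU hd hf) :=
  isOpenImmersion_lift _ _ _

instance (U : Y.Opens) (hU : IsAffineOpen U) {d : ℕ} (hd : 0 < d) {f : 𝒮.presheaf.obj (op U)}
    (hf : f ∈ 𝒮.deg U hU d) : IsOpenImmersion (coneLift 𝒮 U hU hd hf) :=
  isOpenImmersion_lift _ _ _

lemma opensRange_coneLift (U : Y.Opens) (hU : IsAffineOpen U) {d : ℕ} (hd : 0 < d) {f : 𝒮.presheaf.obj (op U)}
    (hf : f ∈ 𝒮.deg U hU d) :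
    (pointedCone 𝒮).ι ⁻¹ᵁ (𝒮.toQCAlg.ι U hU ''ᵁ PrimeSpectrum.basicOpen f) = (coneLift 𝒮 U hU hd hf).opensRange := by
  refine Opens.ext (Set.ext fun x => ?_)
  constructor
  · rintro ⟨w, hw, hwx⟩
    obtain ⟨v, rfl⟩ := (PrimeSpectrum.localization_away_comap_range (Localization.Away f) f).ge hw
    exact ⟨v, (pointedCone 𝒮).ι.isOpenEmbedding.injective
      ((lift_apply _ _ (pointedCone_chart_subset U hU hd hf) v).trans hwx)⟩
  · rintro ⟨v, rfl⟩
    refine ⟨PrimeSpectrum.comap (algebraMap (𝒮.presheaf.obj (op U)) (Localization.Away f)) v,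
      (PrimeSpectrum.localization_away_comap_range (Localization.Away f) f).le ⟨v, rfl⟩, ?_⟩
    exact (lift_apply _ _ (pointedCone_chart_subset U hU hd hf) v).symm

lemma specMap_awayMap_id {A σ : Type u} [CommRing A] [SetLike σ A] [AddSubgroupClass σ A] {𝒜 : ℕ → σ}
    [GradedRing 𝒜] (χ : 𝒜 →+*ᵍ 𝒜) (h : χ = .id 𝒜) {d : ℕ} {f : A} (hf : f ∈ 𝒜 d) (hd : 0 < d) :
    Spec.map (CommRingCat.ofHom (Away.map χ f)) ≫ Proj.awayι 𝒜 f hf hd = Proj.awayι 𝒜 (χ f) (χ.2 hf) hd := by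
  subst h
  rw [Away.map_id]
  exact (congrArg (· ≫ Proj.awayι 𝒜 f hf hd) (Spec.map_id _)).trans (Category.id_comp _)

/-- A section of the projection read chart by chart. -/
lemma section_comp_retr {r : ((domQ (QGrHom.ofHom ι hι) pC chartC : PC.Opens) : Scheme.{u}) ⟶ P}
    (hr : IsRetrOn ι hι pC chartC p chart _ r) (θ : 𝒮h.toQCAlg ⟶ 𝒮.toQCAlg) (hθ : IsGradedHom θ)
    (hιθ : ι ≫ θ = 𝟙 _)
    (hirr : ∀ (U : Y.Opens) (hU : IsAffineOpen U),
      (𝒮.deg U hU)₊ ≤ ((𝒮h.deg U hU)₊).map (gradedHomAt θ hθ U hU))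
    (j : P ⟶ PC) (hj : IsRelProjMap θ hθ hirr chartC chart j)
    (j' : P ⟶ ((domQ (QGrHom.ofHom ι hι) pC chartC : PC.Opens) : Scheme.{u}))
    (hj' : j' ≫ (domQ (QGrHom.ofHom ι hι) pC chartC).ι = j) : j' ≫ r = 𝟙 P := by
  refine RelProjLib.hom_ext (p := p) (chart := chart) fun U hU => ?_
  rw [Category.comp_id]
  have hjU : emb p chart U hU ≫ j = Proj.map (gradedHomAt θ hθ U hU) (hirr U hU) ≫ emb pC chartC U hU := by
    rw [emb, emb, Category.assoc, hj U hU, Iso.inv_hom_id_assoc]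
  have hid : (gradedHomAt θ hθ U hU).comp (gradedHomAt ι hι U hU) = .id (𝒮.deg U hU) :=
    GradedRingHom.ext fun a => congr(((RelSpec.QCAlg.Hom.hom $hιθ).app (op U)).hom a)
  have key : ∀ (d : ℕ) (f x : 𝒮.presheaf.obj (op U)) (hd : 0 < d) (hf : f ∈ 𝒮.deg U hU d)
      (hx : x ∈ 𝒮.deg U hU d), x = gradedHomAt θ hθ U hU (gradedHomAt ι hι U hU f) →
      Proj.awayι (𝒮.deg U hU) x hx hd ≫ emb p chart U hU ≫ j' ≫ r =
        Proj.awayι (𝒮.deg U hU) x hx hd ≫ emb p chart U hU := by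
    intro d f x hd hf hx hxe
    subst hxe
    let l := retrChart (ι := ι) (hι := hι) (pC := pC) (chartC := chartC) U hU hd hf
    have hl : l ≫ (domQ (QGrHom.ofHom ι hι) pC chartC).ι = _ := IsOpenImmersion.lift_fac _ _ _
    have h1 : Proj.awayι (𝒮.deg U hU) (gradedHomAt θ hθ U hU (gradedHomAt ι hι U hU f)) hx hd ≫
        emb p chart U hU ≫ j' =
          Spec.map (CommRingCat.ofHom (Away.map (gradedHomAt θ hθ U hU) (gradedHomAt ι hι U hU f))) ≫ l := by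
      rw [← cancel_mono (domQ (QGrHom.ofHom ι hι) pC chartC).ι, Category.assoc, Category.assoc, Category.assoc,
        hj', hjU, hl, ← Category.assoc, ← Category.assoc]
      congr 1
      exact Proj.awayι_comp_map (gradedHomAt θ hθ U hU) (hirr U hU) hd _ ((gradedHomAt ι hι U hU).2 hf)
    rw [reassoc_of% h1, hr U hU d hd f hf l hl, ← Spec.map_comp_assoc, ← CommRingCat.ofHom_comp,
      ← Away.map_comp, ← Category.assoc]
    exact congrArg (· ≫ emb p chart U hU) (specMap_awayMap_id _ hid hf hd)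
  refine (Proj.affineOpenCover (𝒮.deg U hU)).openCover.hom_ext _ _ fun s => ?_
  exact key s.1 s.2 s.2 s.1.2 s.2.2 s.2.2 (GradedRingHom.congr_fun hid _).symm

lemma exists_degOne_notMem (hgen : 𝒮.IsGenDegOne) (U : Y.Opens) (hU : IsAffineOpen U) (y : Proj (𝒮.deg U hU)) :
    ∃ f ∈ 𝒮.deg U hU 1, f ∉ y.asHomogeneousIdeal := by
  classical
  by_contra hne
  push Not at hne
  let pr := GradedRing.projZeroRingHom (𝒮.deg U hU)
  let I := y.asHomogeneousIdeal.toIdeal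
  have hmem : ∀ x, x - pr x ∈ I := by
    intro x
    have hx : x ∈ Subring.closure ((𝒮.deg U hU 0 : Set (𝒮.presheaf.obj (op U))) ∪ (𝒮.deg U hU 1 : Set _)) :=
      hgen U hU ▸ Subring.mem_top x
    induction hx using Subring.closure_induction with
    | mem t ht =>
      rcases ht with ht | ht
      · rw [show pr t = t by rw [GradedRing.projZeroRingHom_apply, DirectSum.decompose_of_mem_same _ ht], sub_self]
        exact zero_mem _
      · rw [show pr t = 0 by rw [GradedRing.projZeroRingHom_apply, DirectSum.decompose_of_mem_ne _ ht one_ne_zero],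
          sub_zero]
        exact hne t ht
    | zero => rw [map_zero, sub_zero]; exact zero_mem _
    | one => rw [map_one, sub_self]; exact zero_mem _
    | add a b _ _ ha hb => rw [map_add, add_sub_add_comm]; exact add_mem ha hb
    | neg a _ ha => rw [map_neg, ← neg_sub', neg_mem_iff]; exact ha
    | mul a b _ _ ha hb =>
      rw [map_mul, show a * b - pr a * pr b = a * (b - pr b) + pr b * (a - pr a) by ring]
      exact add_mem (Ideal.mul_mem_left _ _ hb) (Ideal.mul_mem_left _ _ ha)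
  refine y.not_irrelevant_le ((HomogeneousIdeal.irrelevant_le _).2 fun n hn b hb => ?_)
  replace hb : b ∈ 𝒮.deg U hU n := hb
  have h := hmem b
  rwa [show pr b = 0 by rw [GradedRing.projZeroRingHom_apply, DirectSum.decompose_of_mem_ne _ hb hn.ne'],
    sub_zero] at h

/-- The degree-one standard charts of a relative Proj. -/
def degOneCover (hgen : 𝒮.IsGenDegOne) (p : P ⟶ Y)
    (chart : ∀ (U : Y.Opens) (hU : IsAffineOpen U), (((p ⁻¹ᵁ U : P.Opens) : Scheme.{u}) ≅ Proj (𝒮.deg U hU))) :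
    P.OpenCover :=
  Scheme.Cover.mkOfCovers (Σ U : {U : Y.Opens // IsAffineOpen U}, 𝒮.deg U.1 U.2 1)
    (fun j => Spec (CommRingCat.of (Away (𝒮.deg j.1.1 j.1.2) (j.2 : 𝒮.presheaf.obj (op j.1.1)))))
    (fun j => Proj.awayι (𝒮.deg j.1.1 j.1.2) j.2.1 j.2.2 one_pos ≫ emb p chart j.1.1 j.1.2)
    (fun x => by
      obtain ⟨U, hU, y, rfl⟩ := RelProjLib.exists_emb_apply_eq (p := p) (chart := chart) x
      obtain ⟨f, hf, hfy⟩ := exists_degOne_notMem hgen U hU y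
      obtain ⟨w, hw⟩ := (Proj.opensRange_awayι (𝒮.deg U hU) f hf one_pos).ge hfy
      exact ⟨⟨⟨U, hU⟩, ⟨f, hf⟩⟩, w, (Scheme.Hom.comp_apply _ _ w).trans (congrArg (emb p chart U hU) hw)⟩)

set_option backward.isDefEq.respectTransparency false in
/-- Finite type and fibres of a morphism that is `Spec g` over every degree-one chart. -/
lemma finiteType_fibre (hgen : 𝒮.IsGenDegOne) {E : Scheme.{u}} (π : E ⟶ P) (T : CommRingCat.{u} → CommRingCat.{u})
    (v : ∀ K : CommRingCat.{u}, K ⟶ T K)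
    (H : ∀ (U : Y.Opens) (hU : IsAffineOpen U) (f : 𝒮.presheaf.obj (op U)) (hf : f ∈ 𝒮.deg U hU 1),
      ∃ (C : CommRingCat.{u}) (g : CommRingCat.of (Away (𝒮.deg U hU) f) ⟶ C) (c : Spec C ⟶ E) (_ : IsOpenImmersion c),
        c ≫ π = Spec.map g ≫ Proj.awayι (𝒮.deg U hU) f hf one_pos ≫ emb p chart U hU ∧
        π ⁻¹ᵁ (emb p chart U hU ''ᵁ Proj.basicOpen (𝒮.deg U hU) f) = c.opensRange ∧ g.hom.FiniteType ∧
        ∀ (K : CommRingCat.{u}) (θ : CommRingCat.of (Away (𝒮.deg U hU) f) ⟶ K),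
          ∃ w : C ⟶ T K, IsPushout g θ w (v K)) :
    LocallyOfFiniteType π ∧ ∀ x : P, ∃ e : pullback π (P.fromSpecResidueField x) ≅ Spec (T (P.residueField x)),
      e.hom ≫ Spec.map (v (P.residueField x)) = pullback.snd π (P.fromSpecResidueField x) := by
  have hrg : ∀ (U : Y.Opens) (hU : IsAffineOpen U) (f : 𝒮.presheaf.obj (op U)) (hf : f ∈ 𝒮.deg U hU 1),
      (Proj.awayι (𝒮.deg U hU) f hf one_pos ≫ emb p chart U hU).opensRange =
        emb p chart U hU ''ᵁ Proj.basicOpen (𝒮.deg U hU) f := fun U hU f hf => by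
    rw [Scheme.Hom.opensRange_comp, Proj.opensRange_awayι]
  refine ⟨(IsZariskiLocalAtTarget.iff_of_openCover (P := @LocallyOfFiniteType) (degOneCover hgen p chart)).2
    fun j => ?_, fun x => ?_⟩
  · obtain ⟨⟨U, hU⟩, ⟨f, hf⟩⟩ := j
    obtain ⟨C, g, c, hc, h1, h2, hft, -⟩ := H U hU f hf
    let a := Proj.awayι (𝒮.deg U hU) f hf one_pos ≫ emb p chart U hU
    have hp : IsPullback c (Spec.map g) π a :=
      (IsOpenImmersion.isPullback (Spec.map g) c a π h1 ((congrArg (π ⁻¹ᵁ ·) (hrg U hU f hf)).trans h2)).flip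
    have : LocallyOfFiniteType (Spec.map g) := (HasRingHomProperty.Spec_iff (P := @LocallyOfFiniteType)).2 hft
    show LocallyOfFiniteType (pullback.snd π a)
    rw [← hp.isoPullback_inv_snd]
    infer_instance
  · obtain ⟨U, hU, y, rfl⟩ := RelProjLib.exists_emb_apply_eq (p := p) (chart := chart) x
    obtain ⟨f, hf, hfy⟩ := exists_degOne_notMem hgen U hU y
    obtain ⟨C, g, c, hc, h1, h2, -, hv⟩ := H U hU f hf
    exact ProjSpec.fibre_iso_of_chart π g c (Proj.awayι (𝒮.deg U hU) f hf one_pos ≫ emb p chart U hU) h1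
      ((congrArg (π ⁻¹ᵁ ·) (hrg U hU f hf)).trans h2) _ (by rw [hrg]; exact ⟨y, hfy, rfl⟩) _ (fun θ => hv _ θ)

end Groth.Agent.RelConeLib
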