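import Groth.Agent.ZetaLib.ProjPoints
import Mathlib.AlgebraicGeometry.ProjectiveSpectrum.Proper
import Mathlib.AlgebraicGeometry.ProjectiveSpectrum.Functor

/-!
# The standard open `D₊(z)` for a ring `B = A[z]` with a grading

`φ : A →+* B`, `z ∈ B₁`, and `A[X] → B`, `X ↦ z`, bijective.
-/

set_option autoImplicit false
noncomputable section

universe u

open CategoryTheory AlgebraicGeometry HomogeneousLocalization
open scoped HomogeneousIdeal

namespace Groth.Agent.RelConeLib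

variable {A B τ : Type u} [CommRing A] [CommRing B] [SetLike τ B] [AddSubgroupClass τ B]
  {ℬ : ℕ → τ} [GradedRing ℬ] {φ : A →+* B} {z : B}

/-- "set `z = 1`". -/
def evalAtOne (hb : Function.Bijective (Polynomial.eval₂RingHom φ z)) : B →+* A :=
  (Polynomial.evalRingHom 1).comp (RingEquiv.ofBijective _ hb).symm.toRingHom

variable (hb : Function.Bijective (Polynomial.eval₂RingHom φ z))

lemma evalAtOne_eval (p : Polynomial A) : evalAtOne hb (Polynomial.eval₂ φ z p) = p.eval 1 :=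
  congrArg (Polynomial.eval 1) ((RingEquiv.ofBijective _ hb).symm_apply_apply p)

lemma evalAtOne_map (a : A) : evalAtOne hb (φ a) = a := by
  simpa using evalAtOne_eval hb (Polynomial.C a)

lemma evalAtOne_self : evalAtOne hb z = 1 := by
  simpa using evalAtOne_eval hb Polynomial.X

include hb in
lemma hom_ext_poly {C : Type u} [CommRing C] {f g : B →+* C} (h1 : ∀ a, f (φ a) = g (φ a))
    (h2 : f z = g z) : f = g := by
  refine RingHom.ext fun b => ?_
  obtain ⟨p, rfl⟩ := hb.2 b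
  exact RingHom.congr_fun (f := f.comp (Polynomial.eval₂RingHom φ z))
    (g := g.comp (Polynomial.eval₂RingHom φ z))
    (Polynomial.ringHom_ext (fun a => by simpa using h1 a) (by simpa using h2)) p

include hb in
lemma mul_z_eq_zero {b : B} (h : z * b = 0) : b = 0 := by
  obtain ⟨p, rfl⟩ := hb.2 b
  have : Polynomial.X * p = 0 := hb.1 (by simpa using h)
  have hp : p = 0 := Polynomial.ext fun n => by
    simpa using congr(Polynomial.coeff $this (n + 1))
  simp [hp]

/-- The homomorphism `B_(z) → A` induced by a homomorphism `E` with `E z = 1`. -/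
def awayTo (E : B →+* A) (hE : E z = 1) : Away ℬ z →+* A :=
  (IsLocalization.Away.lift z (g := E) (by rw [hE]; exact isUnit_one)).comp
    (algebraMap (Away ℬ z) (Localization.Away z))

lemma awayTo_mk (E : B →+* A) (hE : E z = 1) {d : ℕ} (hz : z ∈ ℬ d) (n : ℕ) (x : B) (hx : x ∈ ℬ (n • d)) :
    awayTo E hE (Away.mk ℬ hz n x hx) = E x := by
  rw [awayTo, RingHom.comp_apply, HomogeneousLocalization.algebraMap_apply, Away.val_mk,
    Localization.mk_eq_mk', IsLocalization.Away.lift, IsLocalization.lift_mk'_spec]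
  simp [map_pow, hE]

variable (ℬ) in
lemma dehom_self (hz : z ∈ ℬ 1) : ZetaLib.dehom ℬ hz z = 1 := by
  rw [ZetaLib.dehom_of_mem ℬ hz hz]
  refine val_injective _ ?_
  simp [Localization.mk_self ⟨z, Submonoid.mem_powers z⟩]

lemma awayTo_comp_dehom (E : B →+* A) (hE : E z = 1) (hz : z ∈ ℬ 1) :
    (awayTo E hE).comp (ZetaLib.dehom ℬ hz) = E := by
  classical
  refine RingHom.ext fun b => ?_
  rw [← DirectSum.sum_support_decompose ℬ b]
  simp only [map_sum, RingHom.comp_apply]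
  refine Finset.sum_congr rfl fun i _ => ?_
  rw [ZetaLib.dehom_of_mem ℬ hz (SetLike.coe_mem _), awayTo_mk]

lemma bijective_awayTo (hz : z ∈ ℬ 1) :
    Function.Bijective (awayTo (ℬ := ℬ) (evalAtOne hb) (evalAtOne_self hb)) := by
  have key : ((ZetaLib.dehom ℬ hz).comp φ).comp (evalAtOne hb) = ZetaLib.dehom ℬ hz :=
    hom_ext_poly hb (fun a => by simp [evalAtOne_map])
      (by simp [evalAtOne_self, dehom_self ℬ hz])
  refine ⟨Function.LeftInverse.injective (g := (ZetaLib.dehom ℬ hz).comp φ) fun y => ?_, fun a => ?_⟩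
  · obtain ⟨b, rfl⟩ := ZetaLib.dehom_surjective ℬ hz y
    rw [← RingHom.comp_apply (awayTo _ _), awayTo_comp_dehom]
    exact RingHom.congr_fun key b
  · exact ⟨ZetaLib.dehom ℬ hz (φ a),
      (RingHom.congr_fun (awayTo_comp_dehom (evalAtOne hb) (evalAtOne_self hb) hz) (φ a)).trans
        (evalAtOne_map hb a)⟩

include hb in
/-- A homomorphism out of `B_(z)` inverse to `a ↦ dehom (φ a)` is `awayTo`. -/
lemma eq_awayTo (hz : z ∈ ℬ 1) (θ : Away ℬ z →+* A) (h : ∀ a, θ (ZetaLib.dehom ℬ hz (φ a)) = a) :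
    θ = awayTo (evalAtOne hb) (evalAtOne_self hb) := by
  refine (RingHom.cancel_right (ZetaLib.dehom_surjective ℬ hz)).1 ?_
  rw [awayTo_comp_dehom]
  exact hom_ext_poly hb (fun a => by simp [h, evalAtOne_map])
    (by simp [dehom_self ℬ hz, evalAtOne_self])

lemma eq_awayTo_of_mem {A' σ : Type u} [CommRing A'] [SetLike σ A'] [AddSubgroupClass σ A'] {𝒜 : ℕ → σ}
    [GradedRing 𝒜] {ψ : 𝒜 →+*ᵍ ℬ} (hb' : Function.Bijective (Polynomial.eval₂RingHom (ψ : A' →+* B) z))
    (hz : z ∈ ℬ 1) (θ : Away ℬ z →+* A')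
    (h : ∀ (k : ℕ) (x : A') (hx : x ∈ 𝒜 k), θ (Away.mk ℬ hz k (ψ x) (by simpa using ψ.2 hx)) = x) :
    θ = awayTo (evalAtOne hb') (evalAtOne_self hb') := by
  classical
  refine eq_awayTo hb' hz θ fun a => ?_
  conv_rhs => rw [← DirectSum.sum_support_decompose 𝒜 a]
  conv_lhs => rw [← DirectSum.sum_support_decompose 𝒜 a]
  simp only [map_sum]
  refine Finset.sum_congr rfl fun i _ => ?_
  refine (congrArg θ (ZetaLib.dehom_of_mem ℬ hz (ψ.2 (SetLike.coe_mem _)))).trans ?_
  exact h i _ (SetLike.coe_mem _)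

section natural

variable {A' B' τ' : Type u} [CommRing A'] [CommRing B'] [SetLike τ' B'] [AddSubgroupClass τ' B']
  {ℬ' : ℕ → τ'} [GradedRing ℬ']

lemma evalAtOne_naturality {φ' : A' →+* B'} {z' : B'}
    (hb' : Function.Bijective (Polynomial.eval₂RingHom φ' z')) (ρ : B →+* B') (α : A →+* A')
    (h1 : ∀ a, ρ (φ a) = φ' (α a)) (h2 : ρ z = z') :
    α.comp (evalAtOne hb) = (evalAtOne hb').comp ρ :=
  hom_ext_poly hb (fun a => by simp [evalAtOne_map, h1]) (by simp [evalAtOne_self, h2])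

lemma awayTo_naturality {d : ℕ} (hz : z ∈ ℬ d) (E : B →+* A) (hE : E z = 1) (ρ : ℬ →+*ᵍ ℬ') (α : A →+* A')
    (E' : B' →+* A') (hE' : E' (ρ z) = 1) (h : ∀ b, α (E b) = E' (ρ b)) :
    α.comp (awayTo E hE) = (awayTo E' hE').comp (Away.map ρ z) := by
  refine RingHom.ext fun q => ?_
  obtain ⟨n, x, hx, rfl⟩ := Away.mk_surjective ℬ hz q
  simp only [RingHom.comp_apply, Away.map_mk, awayTo_mk]
  exact h x

end natural

lemma awayTo_fromZero (E : B →+* A) (hE : E z = 1) (hz : z ∈ ℬ 1) (x : ℬ 0) :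
    awayTo E hE (fromZeroRingHom ℬ (Submonoid.powers z) x) = E x := by
  have e : fromZeroRingHom ℬ (Submonoid.powers z) x = Away.mk ℬ hz 0 (x : B) (by simpa using x.2) := by
    refine val_injective _ ?_
    simp [fromZeroRingHom]
    all_goals rfl
  rw [e, awayTo_mk]

section chart

variable (ℬ) in
/-- `Spec A ⟶ D₊(z) ⊆ Proj B`. -/
def coneChart (E : B →+* A) (hE : E z = 1) (hz : z ∈ ℬ 1) : Spec (CommRingCat.of A) ⟶ Proj ℬ :=
  Spec.map (CommRingCat.ofHom (awayTo E hE)) ≫ Proj.awayι ℬ z hz one_pos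

variable (E : B →+* A) (hE : E z = 1) (hz : z ∈ ℬ 1)

lemma coneChart_preimage_basicOpen {n : ℕ} (hn : 0 < n) {b : B} (hb : b ∈ ℬ n) :
    coneChart ℬ E hE hz ⁻¹ᵁ Proj.basicOpen ℬ b = PrimeSpectrum.basicOpen (E b) := by
  have e : awayTo E hE (Away.isLocalizationElem hz hb) = E b := by
    rw [Away.isLocalizationElem, awayTo_mk, pow_one]
  rw [coneChart, Scheme.Hom.comp_preimage, Proj.awayι_preimage_basicOpen ℬ hz one_pos hb hn]
  exact (SpecMap_preimage_basicOpen (CommRingCat.ofHom (awayTo E hE)) (Away.isLocalizationElem hz hb)).trans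
    (congrArg PrimeSpectrum.basicOpen e)

lemma notMem_coneChart_iff {n : ℕ} (hn : 0 < n) {b : B} (hb : b ∈ ℬ n) (w : Spec (CommRingCat.of A)) :
    b ∉ (coneChart ℬ E hE hz w).asHomogeneousIdeal ↔ E b ∉ w.asIdeal := by
  show w ∈ coneChart ℬ E hE hz ⁻¹ᵁ Proj.basicOpen ℬ b ↔ _
  rw [coneChart_preimage_basicOpen E hE hz hn hb]
  exact Iff.rfl

lemma mem_coneChart_iff {n : ℕ} (hn : 0 < n) {b : B} (hb : b ∈ ℬ n) (w : Spec (CommRingCat.of A)) :
    b ∈ (coneChart ℬ E hE hz w).asHomogeneousIdeal ↔ E b ∈ w.asIdeal :=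
  not_iff_not.1 (notMem_coneChart_iff E hE hz hn hb w)

variable (hbij : Function.Bijective (awayTo (ℬ := ℬ) E hE))

include hbij in
lemma isOpenImmersion_coneChart : IsOpenImmersion (coneChart ℬ E hE hz) := by
  have : IsIso (CommRingCat.ofHom (awayTo (ℬ := ℬ) E hE)) :=
    (ConcreteCategory.isIso_iff_bijective _).2 hbij
  unfold coneChart
  infer_instance

include hbij in
lemma range_coneChart : Set.range (coneChart ℬ E hE hz) = (Proj.basicOpen ℬ z : Set (Proj ℬ)) := by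
  have : IsIso (CommRingCat.ofHom (awayTo (ℬ := ℬ) E hE)) :=
    (ConcreteCategory.isIso_iff_bijective _).2 hbij
  rw [← Proj.opensRange_awayι ℬ z hz one_pos]
  unfold coneChart
  exact congrArg (fun U : TopologicalSpace.Opens (Proj ℬ) => (U : Set (Proj ℬ)))
    (Scheme.Hom.opensRange_comp_of_isIso _ _)

lemma isAffineHom_coneChart : IsAffineHom (coneChart ℬ E hE hz) := by
  have : IsAffineHom (coneChart ℬ E hE hz ≫ Proj.toSpecZero ℬ) := inferInstance
  exact IsAffineHom.of_comp _ (Proj.toSpecZero ℬ)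

end chart

lemma coneChart_naturality {A' B' τ' : Type u} [CommRing A'] [CommRing B'] [SetLike τ' B'] [AddSubgroupClass τ' B']
    {ℬ' : ℕ → τ'} [GradedRing ℬ'] (E : B →+* A) (hE : E z = 1) (hz : z ∈ ℬ 1) (ρ : ℬ →+*ᵍ ℬ')
    (hρ : ℬ'₊ ≤ ℬ₊.map ρ) (α : A →+* A') (E' : B' →+* A') {z' : B'} (hz' : z' ∈ ℬ' 1) (h2 : ρ z = z')
    (hE' : E' z' = 1) (h : ∀ b, α (E b) = E' (ρ b)) :
    Spec.map (CommRingCat.ofHom α) ≫ coneChart ℬ E hE hz = coneChart ℬ' E' hE' hz' ≫ Proj.map ρ hρ := by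
  subst h2
  unfold coneChart
  rw [Category.assoc, ← Category.assoc (Spec.map (CommRingCat.ofHom α)), ← Spec.map_comp,
    ← CommRingCat.ofHom_comp, awayTo_naturality hz E hE ρ α E' hE' h, CommRingCat.ofHom_comp,
    Spec.map_comp, Category.assoc, Proj.awayι_comp_map ρ hρ one_pos z hz]

include hb in
/-- The retraction `z ↦ 0`: its kernel is generated by `z`. -/
lemma exists_eq_add_z_mul (b : B) : ∃ (a : A) (c : B), b = φ a + z * c := by
  obtain ⟨p, rfl⟩ := hb.2 b
  refine ⟨p.coeff 0, Polynomial.eval₂ φ z p.divX, ?_⟩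
  simp only [Polynomial.coe_eval₂RingHom]
  conv_lhs => rw [← Polynomial.X_mul_divX_add p]
  rw [Polynomial.eval₂_add, Polynomial.eval₂_mul, Polynomial.eval₂_X, Polynomial.eval₂_C, add_comm]

section relevant

variable {A' σ : Type u} [CommRing A'] [SetLike σ A'] [AddSubgroupClass σ A'] {𝒜 : ℕ → σ}
    [GradedRing 𝒜] (ψ : 𝒜 →+*ᵍ ℬ) (hb' : Function.Bijective (Polynomial.eval₂RingHom (ψ : A' →+* B) z))
    (hz : z ∈ ℬ 1)

include hb' in
/-- A relevant prime of `B` containing `z` does not contain all of `ψ A₊`. -/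
lemma exists_notMem_of_z_mem (y : Proj ℬ) (hy : z ∈ y.asHomogeneousIdeal) :
    ∃ (n : ℕ) (a : A'), 0 < n ∧ a ∈ 𝒜 n ∧ ψ a ∉ y.asHomogeneousIdeal := by
  classical
  by_contra hne
  push Not at hne
  refine y.not_irrelevant_le ((HomogeneousIdeal.irrelevant_le _).2 fun n hn b hbn => ?_)
  obtain ⟨a, c, rfl⟩ := exists_eq_add_z_mul hb' b
  refine add_mem ?_ (Ideal.mul_mem_right _ _ hy)
  have h : (ψ a : B) + z * c ∈ ℬ n := hbn
  show ψ a ∈ y.asHomogeneousIdeal
  rw [← DirectSum.sum_support_decompose 𝒜 a, map_sum]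
  refine sum_mem fun i _ => ?_
  rcases Nat.eq_zero_or_pos i with rfl | hi
  · have hc : ψ (DirectSum.decompose 𝒜 a 0 : A') = -(DirectSum.decompose ℬ (z * c) 0 : B) := by
      rw [GradedRingHom.map_directSumDecompose, eq_neg_iff_add_eq_zero]
      have h0 := DirectSum.decompose_of_mem_ne ℬ h (Nat.ne_of_gt hn)
      rw [DirectSum.decompose_add] at h0
      simpa using h0
    rw [hc]
    exact y.asHomogeneousIdeal.toIdeal.neg_mem
      (y.asHomogeneousIdeal.isHomogeneous 0 (Ideal.mul_mem_right c _ hy))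
  · exact hne i _ hi (SetLike.coe_mem _)

end relevant

end Groth.Agent.RelConeLib
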